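import Groth.Agent.IsocLib.Lattice

/-!
# Growth bounds for iterates of semilinear maps

`Slope G q`: in the coordinates of any basis, `G^n` raises valuations by at least `q n - C`, and some vector shows
that it does not raise them by more than `q n + C`.
-/

set_option autoImplicit false
open Isoc

universe u v

noncomputable section

namespace Groth.Agent.IsocLib

variable {p : ℕ} [Fact p.Prime] {k : Type u} [Field k] [CharP k p] [PerfectRing k p]
variable {V : Type v} [AddCommGroup V] [Module (FractionRing (WittVector p k)) V]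
variable {V' : Type v} [AddCommGroup V'] [Module (FractionRing (WittVector p k)) V']
variable {τ : FractionRing (WittVector p k) →+* FractionRing (WittVector p k)}

local notation "L" => FractionRing (WittVector p k)

/-- All coordinates have valuation at least `q` (no lattice structure needed). -/
theorem vb_mono {n : ℕ} {B : Module.Basis (Fin n) L V} {x : V} {q q' : ℚ} (h : VB B x q) (hq : q' ≤ q) :
    VB B x q' := fun i => (h i).mono hq

theorem vb_zero {n : ℕ} (B : Module.Basis (Fin n) L V) (q : ℚ) : VB B 0 q := fun i => by simp [vGe_zero]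

theorem vb_add {n : ℕ} {B : Module.Basis (Fin n) L V} {x y : V} {q : ℚ} (hx : VB B x q) (hy : VB B y q) :
    VB B (x + y) q := fun i => by rw [map_add, Finsupp.add_apply]; exact (hx i).add (hy i)

theorem vb_sum {β : Type*} {n : ℕ} {B : Module.Basis (Fin n) L V} (s : Finset β) (f : β → V) {q : ℚ}
    (h : ∀ i ∈ s, VB B (f i) q) : VB B (∑ i ∈ s, f i) q :=
  Finset.sum_induction f (fun x => VB B x q) (fun _ _ => vb_add) (vb_zero B q) h

theorem vb_smul {n : ℕ} {B : Module.Basis (Fin n) L V} {x : V} {c : L} {q q' : ℚ} (hc : VGe c q) (hx : VB B x q') :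
    VB B (c • x) (q + q') := fun i => by
  rw [map_smul, Finsupp.smul_apply, smul_eq_mul]; exact hc.mul (hx i)

theorem exists_vb {n : ℕ} (B : Module.Basis (Fin n) L V) (x : V) : ∃ C : ℚ, 0 ≤ C ∧ VB B x (-C) := by
  refine ⟨∑ i, |(ordp (B.repr x i) : ℚ)|, Finset.sum_nonneg fun i _ => abs_nonneg _, fun i => Or.inr ?_⟩
  have h1 : |(ordp (B.repr x i) : ℚ)| ≤ ∑ j, |(ordp (B.repr x j) : ℚ)| :=
    Finset.single_le_sum (f := fun j => |(ordp (B.repr x j) : ℚ)|) (fun j _ => abs_nonneg _) (Finset.mem_univ i)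
  have h2 := neg_abs_le (ordp (B.repr x i) : ℚ)
  linarith

/-- Semilinear maps lose boundedly. -/
theorem exists_shift {σ : L →+* L} (hσ : Good σ) (f : V →ₛₗ[σ] V') {n m : ℕ} (B : Module.Basis (Fin n) L V)
    (B' : Module.Basis (Fin m) L V') : ∃ C : ℚ, 0 ≤ C ∧ ∀ x t, VB B x t → VB B' (f x) (t - C) := by
  choose c hc0 hc using fun j => exists_vb B' (f (B j))
  refine ⟨∑ j, c j, Finset.sum_nonneg fun j _ => hc0 j, fun x t hx => ?_⟩
  have hexp : f x = ∑ j, σ (B.repr x j) • f (B j) := by
    conv_lhs => rw [← B.sum_repr x]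
    rw [map_sum]
    exact Finset.sum_congr rfl fun j _ => f.map_smulₛₗ _ _
  rw [hexp]
  refine vb_sum _ _ fun j _ => vb_mono (vb_smul (hσ.vGe (hx j)) (hc j)) ?_
  have := Finset.single_le_sum (f := c) (fun j _ => hc0 j) (Finset.mem_univ j)
  linarith

theorem exists_change {n m : ℕ} (B : Module.Basis (Fin n) L V) (B' : Module.Basis (Fin m) L V) :
    ∃ C : ℚ, 0 ≤ C ∧ ∀ x t, VB B x t → VB B' x (t - C) :=
  exists_shift Good.id LinearMap.id B B'

/-- Lower growth bound. -/
def Lower (G : V →ₛₗ[τ] V) {n : ℕ} (B : Module.Basis (Fin n) L V) (q : ℚ) : Prop :=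
  ∃ C : ℚ, ∀ (i : ℕ) (x : V) (t : ℚ), VB B x t → VB B ((⇑G)^[i] x) (t + q * i - C)

/-- The bound is attained up to a constant. -/
def Sharp (G : V →ₛₗ[τ] V) {n : ℕ} (B : Module.Basis (Fin n) L V) (q : ℚ) : Prop :=
  ∃ (x : V) (C : ℚ), ∀ i : ℕ, ¬ VB B ((⇑G)^[i] x) (q * i + C)

/-- `q` is the first slope of `G`. -/
def Slope (G : V →ₛₗ[τ] V) (q : ℚ) : Prop :=
  ∀ (n : ℕ) (B : Module.Basis (Fin n) L V), Lower G B q ∧ Sharp G B q

theorem Lower.change {G : V →ₛₗ[τ] V} {n m : ℕ} {B : Module.Basis (Fin n) L V} {q : ℚ} (h : Lower G B q)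
    (B' : Module.Basis (Fin m) L V) : Lower G B' q := by
  obtain ⟨C, hC⟩ := h
  obtain ⟨a, -, ha⟩ := exists_change B B'
  obtain ⟨b, -, hb⟩ := exists_change B' B
  refine ⟨C + a + b, fun i x t hx => vb_mono (ha _ _ (hC i x _ (hb x t hx))) ?_⟩
  linarith

theorem Sharp.change {G : V →ₛₗ[τ] V} {n m : ℕ} {B : Module.Basis (Fin n) L V} {q : ℚ} (h : Sharp G B q)
    (B' : Module.Basis (Fin m) L V) : Sharp G B' q := by
  obtain ⟨x, C, hC⟩ := h
  obtain ⟨a, -, ha⟩ := exists_change B' B
  refine ⟨x, C + a, fun i hi => hC i ?_⟩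
  refine vb_mono (ha _ _ hi) ?_
  linarith

theorem slope_of_basis {G : V →ₛₗ[τ] V} {n : ℕ} {B : Module.Basis (Fin n) L V} {q : ℚ} (h₁ : Lower G B q)
    (h₂ : Sharp G B q) : Slope G q :=
  fun _ B' => ⟨h₁.change B', h₂.change B'⟩

theorem Lower.mono {G : V →ₛₗ[τ] V} {n : ℕ} {B : Module.Basis (Fin n) L V} {q q' : ℚ} (h : Lower G B q)
    (hq : q' ≤ q) : Lower G B q' := by
  obtain ⟨C, hC⟩ := h
  refine ⟨C, fun i x t hx => vb_mono (hC i x t hx) ?_⟩
  have : q' * i ≤ q * i := mul_le_mul_of_nonneg_right hq (Nat.cast_nonneg i)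
  linarith

/-- A lower bound cannot exceed a sharp one. -/
theorem le_of_lower_sharp {G : V →ₛₗ[τ] V} {n : ℕ} {B : Module.Basis (Fin n) L V} {q q' : ℚ} (h : Lower G B q)
    (h' : Sharp G B q') : q ≤ q' := by
  obtain ⟨C, hC⟩ := h
  obtain ⟨x, C', hC'⟩ := h'
  obtain ⟨c, -, hc⟩ := exists_vb B x
  by_contra hlt
  push Not at hlt
  obtain ⟨i, hi⟩ := exists_nat_ge ((C + C' + c) / (q - q'))
  rw [div_le_iff₀ (by linarith)] at hi
  exact hC' i (vb_mono (hC i x _ hc) (by nlinarith))

theorem Slope.unique {G : V →ₛₗ[τ] V} {n : ℕ} (B : Module.Basis (Fin n) L V) {q q' : ℚ} (h : Slope G q)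
    (h' : Slope G q') : q = q' :=
  le_antisymm (le_of_lower_sharp (h n B).1 (h' n B).2) (le_of_lower_sharp (h' n B).1 (h n B).2)

/-! ### A cyclic map -/

section Cyclic

variable {h : ℕ} {B : Module.Basis (Fin (h + 1)) (FractionRing (WittVector p k)) V} {G : V →ₛₗ[τ] V}

theorem cyclic_coord (hB : ∀ i : Fin h, G (B i.castSucc) = B i.succ) (x : V) :
    B.repr (G x) 0 = τ (B.repr x (Fin.last h)) * B.repr (G (B (Fin.last h))) 0 ∧
      ∀ i : Fin h, B.repr (G x) i.succ =
        τ (B.repr x i.castSucc) + τ (B.repr x (Fin.last h)) * B.repr (G (B (Fin.last h))) i.succ := by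
  have hexp : G x = (∑ i : Fin h, τ (B.repr x i.castSucc) • B i.succ)
      + τ (B.repr x (Fin.last h)) • G (B (Fin.last h)) := by
    conv_lhs => rw [← B.sum_repr x, Fin.sum_univ_castSucc]
    simp [map_sum, hB]
  refine ⟨?_, fun i => ?_⟩ <;>
    rw [hexp, map_add, Finsupp.add_apply, map_sum, Finsupp.finsetSum_apply, map_smul, Finsupp.smul_apply, smul_eq_mul]
  · rw [Finset.sum_eq_zero fun j _ => ?_, zero_add]
    simp [Fin.succ_ne_zero, Finsupp.single_apply]
  · congr 1
    rw [Finset.sum_eq_single i]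
    · simp
    · intro j _ hj
      simp [Finsupp.single_apply, (Fin.succ_injective _).ne hj]
    · simp

/-- The first slope of a cyclic map, with its denominator bound. -/
theorem exists_slope_cyclic (hτ : Good τ) (hG : Function.Injective G)
    (hB : ∀ i : Fin h, G (B i.castSucc) = B i.succ) : ∃ q : ℚ, q.den ≤ h + 1 ∧ Slope G q := by
  classical
  set a : Fin (h + 1) → L := fun i => B.repr (G (B (Fin.last h))) i with ha
  have ha0 : ∃ i, a i ≠ 0 := by
    by_contra hc
    push Not at hc
    refine B.ne_zero (Fin.last h) (hG ?_)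
    rw [map_zero]
    exact B.repr.injective (Finsupp.ext fun i => by rw [map_zero]; exact hc i)
  let S : Finset (Fin (h + 1)) := Finset.univ.filter (fun i => a i ≠ 0)
  let g : Fin (h + 1) → ℚ := fun i => (ordp (a i) : ℚ) / ((h + 1 - i.val : ℕ) : ℚ)
  obtain ⟨i₀, hi₀, hmin⟩ := S.exists_min_image g ⟨ha0.choose, by simpa [S] using ha0.choose_spec⟩
  let μ := g i₀
  let T : Finset (Fin (h + 1)) := S.filter (fun i => g i = μ)
  have hT : T.Nonempty := ⟨i₀, by simp [T, μ, hi₀]⟩
  let m := T.min' hT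
  obtain ⟨hmS, hgm⟩ := Finset.mem_filter.1 (T.min'_mem hT)
  have hpos : ∀ i : Fin (h + 1), (0 : ℚ) < ((h + 1 - i.val : ℕ) : ℚ) := fun i => by
    exact_mod_cast (by omega : 0 < h + 1 - i.val)
  have hcast : ∀ i : Fin (h + 1), ((h + 1 - i.val : ℕ) : ℚ) = (h : ℚ) + 1 - i.val := fun i => by
    rw [Nat.cast_sub (by omega)]; push_cast; ring
  have hm0 : a m ≠ 0 := (Finset.mem_filter.1 hmS).2
  have ham : VEq (a m) (((h : ℚ) + 1 - m.val) * μ) := ⟨hm0, by
    rw [← hgm, ← hcast]; simp only [g, m]; rw [mul_div_cancel₀ _ (hpos _).ne']⟩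
  have hage : ∀ i, VGe (a i) (((h : ℚ) + 1 - i.val) * μ) := fun i => by
    by_cases hi : a i = 0
    · exact Or.inl hi
    refine Or.inr ?_
    have := hmin i (by simp [S, hi])
    rw [← hcast]
    calc _ ≤ ((h + 1 - i.val : ℕ) : ℚ) * g i := mul_le_mul_of_nonneg_left this (hpos i).le
      _ = _ := mul_div_cancel₀ _ (hpos i).ne'
  have hagt : ∀ i, i < m → VGt (a i) (((h : ℚ) + 1 - i.val) * μ) := fun i hi => by
    by_cases h0 : a i = 0
    · exact Or.inl h0
    refine Or.inr ?_
    have h1 := hmin i (by simp [S, h0])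
    have h2 : g i ≠ μ := fun he => absurd (T.min'_le i (by simp [T, S, h0, he])) (not_le.2 hi)
    rw [← hcast]
    calc _ < ((h + 1 - i.val : ℕ) : ℚ) * g i := mul_lt_mul_of_pos_left (lt_of_le_of_ne h1 h2.symm) (hpos i)
      _ = _ := mul_div_cancel₀ _ (hpos i).ne'
  refine ⟨μ, ?_, slope_of_basis (B := B) ?_ ?_⟩
  · have hd := Rat.den_dvd (ordp (a i₀)) ((h + 1 - i₀.val : ℕ) : ℤ)
    have hq : μ = Rat.divInt (ordp (a i₀)) ((h + 1 - i₀.val : ℕ) : ℤ) := by
      rw [Rat.divInt_eq_div]; simp [μ, g]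
    rw [hq]
    have := Int.le_of_dvd (by omega) hd
    omega
  -- weighted valuation
  all_goals
    have stepW : ∀ x t, (∀ i, VGe (B.repr x i) (t - i.val * μ)) →
        ∀ i, VGe (B.repr (G x) i) (t + μ - i.val * μ) := fun x t hx i => by
      obtain ⟨e0, es⟩ := cyclic_coord hB x
      have hlast : ∀ i : Fin (h + 1), VGe (τ (B.repr x (Fin.last h)) * a i) (t + μ - i.val * μ) := fun i =>
        ((hτ.vGe (hx (Fin.last h))).mul (hage i)).mono (by rw [Fin.val_last]; linarith)
      induction i using Fin.cases with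
      | zero => rw [e0]; exact hlast 0
      | succ i =>
        rw [es]
        exact ((hτ.vGe (hx i.castSucc)).mono (by simp; linarith)).add (hlast i.succ)
    have hK : ∀ i : Fin (h + 1), |(i.val : ℚ) * μ| ≤ ((h : ℚ) + 1) * |μ| := fun i => by
      rw [abs_mul, Nat.abs_cast]
      exact mul_le_mul_of_nonneg_right (by exact_mod_cast i.2.le) (abs_nonneg μ)
  · refine ⟨2 * (((h : ℚ) + 1) * |μ|), fun n x t hx i => ?_⟩
    have hn : ∀ n : ℕ, ∀ i, VGe (B.repr ((⇑G)^[n] x) i) (t - ((h : ℚ) + 1) * |μ| + μ * n - i.val * μ) := fun n => by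
      induction n with
      | zero =>
        intro i
        refine (hx i).mono ?_
        have := (abs_le.1 (hK i)).1
        simp; linarith
      | succ n ih =>
        intro i
        rw [Function.iterate_succ_apply']
        refine (stepW _ _ ih i).mono ?_
        push_cast; linarith
    refine (hn n i).mono ?_
    have := (abs_le.1 (hK i)).2
    linarith
  · let Inv : V → ℚ → Prop := fun x t => (∀ i, VGe (B.repr x i) (t - i.val * μ)) ∧
      (∀ i < m, VGt (B.repr x i) (t - i.val * μ)) ∧ ∃ j, m ≤ j ∧ VEq (B.repr x j) (t - j.val * μ)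
    have step : ∀ x t, Inv x t → Inv (G x) (t + μ) := by
      rintro x t ⟨hx, hlt, j, hmj, hj⟩
      obtain ⟨e0, es⟩ := cyclic_coord hB x
      refine ⟨stepW x t hx, fun i hi => ?_, ?_⟩
      · have hlast : VGt (τ (B.repr x (Fin.last h)) * a i) (t + μ - i.val * μ) := by
          have := VEq.mul_vGt (hτ.vGe (hx (Fin.last h))) (hagt i hi)
          rw [Fin.val_last, show t - (h : ℚ) * μ + ((h : ℚ) + 1 - i.val) * μ = t + μ - i.val * μ by ring] at this
          exact this
        induction i using Fin.cases with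
        | zero => rw [e0]; exact hlast
        | succ i =>
          rw [es]
          refine VGt.add ?_ hlast
          have := hτ.vGt (hlt i.castSucc (lt_trans Fin.castSucc_lt_succ hi))
          rw [Fin.val_castSucc] at this
          rw [Fin.val_succ]
          push_cast
          rwa [show t + μ - ((i.val : ℚ) + 1) * μ = t - i.val * μ by ring]
      by_cases hlastEq : VEq (B.repr x (Fin.last h)) (t - (Fin.last h).val * μ)
      · refine ⟨m, le_rfl, ?_⟩
        have hmain : VEq (τ (B.repr x (Fin.last h)) * a m) (t + μ - m.val * μ) := by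
          have := (hτ.vEq hlastEq).mul ham
          rw [Fin.val_last, show t - (h : ℚ) * μ + ((h : ℚ) + 1 - m.val) * μ = t + μ - m.val * μ by ring] at this
          exact this
        rcases Fin.eq_zero_or_eq_succ m with hm | ⟨m', hm⟩
        · rw [hm] at hmain ⊢
          rw [e0]; exact hmain
        · rw [hm] at hmain ⊢
          rw [es, add_comm]
          refine hmain.add_vGt ?_
          have := hτ.vGt (hlt m'.castSucc (hm ▸ Fin.castSucc_lt_succ (i := m')))
          rw [Fin.val_castSucc] at this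
          rw [Fin.val_succ]
          push_cast
          rwa [show t + μ - ((m'.val : ℚ) + 1) * μ = t - m'.val * μ by ring]
      · obtain ⟨j', rfl⟩ : ∃ j' : Fin h, j'.castSucc = j := by
          induction j using Fin.lastCases with
          | last => exact absurd hj hlastEq
          | cast j' => exact ⟨j', rfl⟩
        refine ⟨j'.succ, hmj.trans Fin.castSucc_lt_succ.le, ?_⟩
        rw [es]
        have e : t + μ - (j'.succ.val : ℚ) * μ = t - (j'.castSucc.val : ℚ) * μ := by simp; ring
        rw [e]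
        refine (hτ.vEq hj).add_vGt ?_
        rw [← e]
        have hgt : VGt (B.repr x (Fin.last h)) (t - (Fin.last h).val * μ) := by
          rcases hx (Fin.last h) with h0 | hle
          · exact Or.inl h0
          · by_cases h0 : B.repr x (Fin.last h) = 0
            · exact Or.inl h0
            · exact Or.inr (lt_of_le_of_ne hle fun he => hlastEq ⟨h0, he.symm⟩)
        have := VEq.mul_vGt (hage j'.succ) (hτ.vGt hgt)
        rw [mul_comm] at this
        refine (vGt_iff.2 ?_)
        obtain ⟨q', hq', h'⟩ := vGt_iff.1 this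
        exact ⟨q', lt_of_eq_of_lt (by simp; ring) hq', h'⟩
    have start : Inv (B m) (m.val * μ) := by
      refine ⟨fun i => ?_, fun i hi => ?_, m, le_rfl, ?_⟩
      · rcases eq_or_ne i m with rfl | hi
        · simpa using vGe_one
        · simp [Finsupp.single_apply, hi.symm, vGe_zero]
      · simp [Finsupp.single_apply, (ne_of_lt hi).symm, vGt_zero]
      · simpa using vEq_one
    have hall : ∀ n : ℕ, Inv ((⇑G)^[n] (B m)) (m.val * μ + μ * n) := fun n => by
      induction n with
      | zero => simpa using start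
      | succ n ih =>
        rw [Function.iterate_succ_apply']
        have := step _ _ ih
        push_cast
        rwa [show (m.val : ℚ) * μ + μ * ((n : ℚ) + 1) = m.val * μ + μ * n + μ by ring]
    refine ⟨B m, 2 * (((h : ℚ) + 1) * |μ|) + 1, fun n hn => ?_⟩
    obtain ⟨-, -, j, -, hj⟩ := hall n
    have h1 := (hn j).resolve_left hj.1
    rw [hj.2] at h1
    have := (abs_le.1 (hK m)).2
    have := (abs_le.1 (hK j)).1
    linarith

end Cyclic

end Groth.Agent.IsocLib
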