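import Groth.Agent.IsocLib.Split

/-!
# The slope decomposition
-/

set_option autoImplicit false
open Isoc

universe u v

noncomputable section

namespace Groth.Agent.IsocLib

variable {p : ℕ} [Fact p.Prime] {k : Type u} [Field k] [CharP k p] [PerfectRing k p]
variable {τ : FractionRing (WittVector p k) →+* FractionRing (WittVector p k)}

local notation "W" => WittVector p k
local notation "L" => FractionRing (WittVector p k)

theorem iSup_slopePart_aux (hτ : Good τ) : ∀ (n : ℕ) {N : Type v} [AddCommGroup N] [Module W N] [Module L N]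
    [IsScalarTower W L N] [Module.Finite L N] (F : N →ₛₗ[τ] N), Function.Injective F → Module.finrank L N ≤ n →
    ⨆ μ : ℚ, slopePart F μ = ⊤
  | 0, N, _, _, _, _, _, F, _, hn => by
    have : Subsingleton N := Module.finrank_zero_iff.1 (by omega : Module.finrank L N = 0)
    exact eq_top_iff.2 fun x _ => by rw [Subsingleton.elim x 0]; exact zero_mem _
  | n + 1, N, _, _, _, _, _, F, hF, hn => by
    rcases subsingleton_or_nontrivial N with hN | hN
    · exact eq_top_iff.2 fun x _ => by rw [Subsingleton.elim x 0]; exact zero_mem _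
    obtain ⟨q, U, Z, hU, hUZ, hiso, hZ⟩ := exists_split hτ F hF
    have hsum := Submodule.finrank_add_eq_of_isCompl hUZ
    have hpos : 0 < Module.finrank L U := Nat.pos_of_ne_zero fun h => hU (Submodule.finrank_eq_zero.1 h)
    have ih := iSup_slopePart_aux hτ n (F.restrict hZ) (bijective_restrict hτ hF Z hZ).1 (by omega)
    refine eq_top_iff.2 (hUZ.codisjoint.eq_top.ge.trans (sup_le ((hiso.le_slopePart hτ).trans (le_iSup _ q)) ?_))
    calc Z = (⊤ : Submodule L Z).map Z.subtype := by rw [Submodule.map_top, Submodule.range_subtype]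
      _ = ⨆ μ, (slopePart (F.restrict hZ) μ).map Z.subtype := by rw [← ih, Submodule.map_iSup]
      _ ≤ _ := iSup_mono fun μ => ((isoSub_slopePart hτ _ μ).map hτ (subtype_equivariant Z hZ)).le_slopePart hτ

variable {N : Type v} [AddCommGroup N] [Module (WittVector p k) N] [Module (FractionRing (WittVector p k)) N]
  [IsScalarTower (WittVector p k) (FractionRing (WittVector p k)) N]
  [Module.Finite (FractionRing (WittVector p k)) N]

theorem iSup_slopePart (hτ : Good τ) {F : N →ₛₗ[τ] N} (hF : Function.Injective F) : ⨆ μ : ℚ, slopePart F μ = ⊤ :=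
  iSup_slopePart_aux hτ _ F hF le_rfl

theorem disjoint_finset_sup (hτ : Good τ) {F : N →ₛₗ[τ] N} (hF : Function.Injective F) (S : Finset ℚ) :
    ∀ μ ∉ S, Disjoint (slopePart F μ) (S.sup (slopePart F)) := by
  classical
  induction S using Finset.induction_on with
  | empty => intro μ _; simp
  | insert ν S hνS ih =>
    intro μ hμ
    rw [Finset.mem_insert, not_or] at hμ
    rw [Finset.sup_insert, Submodule.disjoint_def]
    intro x hxP hx
    set R := S.sup (slopePart F) with hRdef
    have hR : ∀ y ∈ R, F y ∈ R := by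
      rw [hRdef]
      refine Finset.sup_induction (p := fun R : Submodule L N => ∀ y ∈ R, F y ∈ R) ?_ ?_ fun ρ _ =>
        (isoSub_slopePart hτ F ρ).stable
      · intro y hy; rw [(Submodule.mem_bot L).1 hy, map_zero]; exact zero_mem _
      · intro A hA B hB y hy
        obtain ⟨a, ha, b, hb, rfl⟩ := Submodule.mem_sup.1 hy
        rw [map_add]; exact Submodule.add_mem_sup (hA a ha) (hB b hb)
    let F' : N ⧸ R →ₛₗ[τ] N ⧸ R := R.mapQ R F hR
    have hF' : Function.Injective F' := by
      rw [injective_iff_map_eq_zero]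
      intro y hy
      obtain ⟨y, rfl⟩ := R.mkQ_surjective y
      obtain ⟨z, hz⟩ := (bijective_restrict hτ hF R hR).2 ⟨F y, (Submodule.Quotient.mk_eq_zero R).1 hy⟩
      have hyz : y = z := hF ((congrArg Subtype.val hz).symm)
      exact (Submodule.Quotient.mk_eq_zero R).2 (hyz ▸ z.2)
    have hdis := IsoSub.disjoint hτ hF'
      ((isoSub_slopePart hτ F μ).map hτ (f := R.mkQ) (F' := F') fun _ => rfl)
      ((isoSub_slopePart hτ F ν).map hτ (f := R.mkQ) (F' := F') fun _ => rfl) hμ.1
    obtain ⟨a, ha, b, hb, rfl⟩ := Submodule.mem_sup.1 hx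
    have hab : R.mkQ (a + b) = R.mkQ a := by
      rw [map_add, Submodule.mkQ_apply R b, (Submodule.Quotient.mk_eq_zero R).2 hb, add_zero]
    have h0 : R.mkQ (a + b) = 0 :=
      Submodule.disjoint_def.1 hdis _ (Submodule.mem_map_of_mem hxP) (hab ▸ Submodule.mem_map_of_mem ha)
    exact Submodule.disjoint_def.1 (ih μ hμ.2) _ hxP ((Submodule.Quotient.mk_eq_zero R).1 h0)

theorem iSupIndep_slopePart (hτ : Good τ) {F : N →ₛₗ[τ] N} (hF : Function.Injective F) :
    iSupIndep (fun μ : ℚ => slopePart F μ) := by
  classical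
  rw [iSupIndep_iff_finset_sum_eq_zero_imp_eq_zero]
  intro S v hv hsum μ hμ
  have h2 : v μ ∈ (S.erase μ).sup (slopePart F) := by
    have hvμ : v μ = -∑ ν ∈ S.erase μ, v ν := by
      rw [eq_neg_iff_add_eq_zero, Finset.add_sum_erase S v hμ]; exact hsum
    rw [hvμ]
    exact neg_mem (Submodule.sum_mem _ fun ν hν =>
      (Finset.le_sup (f := slopePart F) hν : _ ≤ _) (hv ν (Finset.mem_of_mem_erase hν)))
  exact Submodule.disjoint_def.1 (disjoint_finset_sup hτ hF (S.erase μ) μ (Finset.notMem_erase μ S)) _ (hv μ hμ) h2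

theorem isInternal_slopePart (hτ : Good τ) {F : N →ₛₗ[τ] N} (hF : Function.Injective F) :
    DirectSum.IsInternal (fun μ : ℚ => slopePart F μ) :=
  (DirectSum.isInternal_submodule_iff_iSupIndep_and_iSup_eq_top _).2
    ⟨iSupIndep_slopePart hτ hF, iSup_slopePart hτ hF⟩

theorem finite_slopes (hτ : Good τ) {F : N →ₛₗ[τ] N} (hF : Function.Injective F) :
    {μ : ℚ | slopePart F μ ≠ ⊥}.Finite :=
  WellFoundedGT.finite_ne_bot_of_iSupIndep (iSupIndep_slopePart hτ hF)

theorem exists_finset_sup_eq_top (hτ : Good τ) {F : N →ₛₗ[τ] N} (hF : Function.Injective F) :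
    ∃ S : Finset ℚ, S.sup (slopePart F) = ⊤ ∧ ∀ μ ∉ S, slopePart F μ = ⊥ := by
  refine ⟨(finite_slopes hτ hF).toFinset, eq_top_iff.2 ?_, fun μ hμ => by
    by_contra h; exact hμ ((Set.Finite.mem_toFinset _).2 h)⟩
  rw [← iSup_slopePart hτ hF]
  refine iSup_le fun μ => ?_
  by_cases h : slopePart F μ = ⊥
  · rw [h]; exact bot_le
  · exact Finset.le_sup ((Set.Finite.mem_toFinset _).2 h)

/-! ### Additivity of the order of the determinant -/

section Det

variable {V : Type v} [AddCommGroup V] [Module (FractionRing (WittVector p k)) V]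
  [Module.Finite (FractionRing (WittVector p k)) V]
variable {V' : Type v} [AddCommGroup V'] [Module (FractionRing (WittVector p k)) V']
  [Module.Finite (FractionRing (WittVector p k)) V']

theorem detOrd_congr (hτ : Good τ) {G : V →ₛₗ[τ] V} {G' : V' →ₛₗ[τ] V'} (hG : Function.Injective G)
    (e : V ≃ₗ[L] V') (he : ∀ x, e (G x) = G' (e x)) : detOrd G' = detOrd G := by
  let b := Module.finBasis L V
  refine detOrd_eq hτ (b.map e) ?_
  have : detCoeff (b.map e) G' = detCoeff b G := by
    simp only [detCoeff]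
    congr 1
    ext i j
    simp [← he]
  rw [this]
  exact isOrdP_detOrd hτ hG b

theorem detOrd_isCompl (hτ : Good τ) {G : V →ₛₗ[τ] V} (hG : Function.Injective G) {P Q : Submodule L V}
    (hPQ : IsCompl P Q) (hP : ∀ x ∈ P, G x ∈ P) (hQ : ∀ x ∈ Q, G x ∈ Q) :
    detOrd G = detOrd (G.restrict hP) + detOrd (G.restrict hQ) := by
  let bP := Module.finBasis L P
  let bQ := Module.finBasis L Q
  let b := (bP.prod bQ).map (Submodule.prodEquivOfIsCompl P Q hPQ)
  let B := b.reindex finSumFinEquiv
  refine detOrd_eq hτ B ?_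
  have hmat : detCoeff B G = (Matrix.fromBlocks (Matrix.of fun i j => bP.repr (G.restrict hP (bP j)) i) 0 0
      (Matrix.of fun i j => bQ.repr (G.restrict hQ (bQ j)) i)).det := by
    rw [← Matrix.det_submatrix_equiv_self finSumFinEquiv.symm]
    simp only [detCoeff]
    congr 1
    ext i j
    rw [Matrix.of_apply, Matrix.submatrix_apply]
    simp only [B, Module.Basis.repr_reindex, Module.Basis.reindex_apply, Finsupp.mapDomain_equiv_apply]
    generalize finSumFinEquiv.symm i = i'
    generalize finSumFinEquiv.symm j = j'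
    simp only [b, Module.Basis.map_repr, Module.Basis.map_apply, LinearEquiv.trans_apply]
    rcases j' with j' | j'
    · have h1 : (Submodule.prodEquivOfIsCompl P Q hPQ).symm
          (G (Submodule.prodEquivOfIsCompl P Q hPQ ((bP.prod bQ) (Sum.inl j')))) = (G.restrict hP (bP j'), 0) := by
        rw [LinearEquiv.symm_apply_eq]
        simp [Submodule.coe_prodEquivOfIsCompl', Module.Basis.prod_apply]
      rw [h1]
      rcases i' with i' | i' <;> simp
    · have h1 : (Submodule.prodEquivOfIsCompl P Q hPQ).symm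
          (G (Submodule.prodEquivOfIsCompl P Q hPQ ((bP.prod bQ) (Sum.inr j')))) = (0, G.restrict hQ (bQ j')) := by
        rw [LinearEquiv.symm_apply_eq]
        simp [Submodule.coe_prodEquivOfIsCompl', Module.Basis.prod_apply]
      rw [h1]
      rcases i' with i' | i' <;> simp
  rw [hmat, Matrix.det_fromBlocks_zero₂₁]
  exact IsOrdP.mul (isOrdP_detOrd hτ (bijective_restrict hτ hG P hP).1 bP)
    (isOrdP_detOrd hτ (bijective_restrict hτ hG Q hQ).1 bQ)

theorem detOrd_subsingleton (hτ : Good τ) [Subsingleton V] (G : V →ₛₗ[τ] V) : detOrd G = 0 := by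
  let B : Module.Basis (Fin 0) L V := Module.Basis.empty V
  refine detOrd_eq hτ B ?_
  have : detCoeff B G = (p : L) ^ (0 : ℤ) := by simp [detCoeff]
  rw [this]
  exact IsOrdP.pPow 0

end Det

theorem mul_newtonMult (hτ : Good τ) {F : N →ₛₗ[τ] N} (hF : Function.Injective F) (μ : ℚ) :
    μ * (newtonMult F μ : ℚ) = (detOrd (F.restrict (isoSub_slopePart hτ F μ).stable) : ℚ) :=
  isoclinic_mul_eq hτ (bijective_restrict hτ hF _ _).1 ((isoSub_slopePart hτ F μ).isIsoclinic hτ _)

theorem sum_mul_newtonMult (hτ : Good τ) {F : N →ₛₗ[τ] N} (hF : Function.Injective F) :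
    ∑ᶠ μ : ℚ, μ * (newtonMult F μ : ℚ) = (detOrd F : ℚ) := by
  classical
  obtain ⟨S, hStop, hSbot⟩ := exists_finset_sup_eq_top hτ hF
  rw [finsum_eq_sum_of_support_subset _ (s := S) fun μ hμ => by
    by_contra h
    refine hμ ?_
    show μ * (newtonMult F μ : ℚ) = 0
    rw [newtonMult, hSbot μ h, finrank_bot, Nat.cast_zero, mul_zero]]
  simp only [mul_newtonMult hτ hF, ← Int.cast_sum, Int.cast_inj]
  have key : ∀ T : Finset ℚ, ∀ (hT : ∀ x ∈ T.sup (slopePart F), F x ∈ T.sup (slopePart F)),
      ∑ μ ∈ T, detOrd (F.restrict (isoSub_slopePart hτ F μ).stable) = detOrd (F.restrict hT) := by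
    intro T
    induction T using Finset.induction_on with
    | empty =>
      intro hT
      have : Subsingleton ↥((∅ : Finset ℚ).sup (slopePart F)) := by
        rw [Finset.sup_empty]; infer_instance
      rw [Finset.sum_empty, detOrd_subsingleton hτ]
    | insert ν T hνT ih =>
      intro hT
      set P := slopePart F ν with hPdef
      set Q := T.sup (slopePart F) with hQdef
      set R := (insert ν T).sup (slopePart F) with hRdef
      have hRe : R = P ⊔ Q := Finset.sup_insert
      have hQs : ∀ x ∈ Q, F x ∈ Q := by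
        rw [hQdef]
        refine Finset.sup_induction (p := fun R : Submodule L N => ∀ y ∈ R, F y ∈ R) ?_ ?_ fun ρ _ =>
          (isoSub_slopePart hτ F ρ).stable
        · intro y hy; rw [(Submodule.mem_bot L).1 hy, map_zero]; exact zero_mem _
        · intro A hA B hB y hy
          obtain ⟨a, ha, b, hb, rfl⟩ := Submodule.mem_sup.1 hy
          rw [map_add]; exact Submodule.add_mem_sup (hA a ha) (hB b hb)
      have hPs : ∀ x ∈ P, F x ∈ P := (isoSub_slopePart hτ F ν).stable
      have hPR : P ≤ R := hRe ▸ le_sup_left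
      have hQR : Q ≤ R := hRe ▸ le_sup_right
      let P' := P.comap R.subtype
      let Q' := Q.comap R.subtype
      have hcompl : IsCompl P' Q' := by
        refine ⟨Submodule.disjoint_def.2 fun x hx hy => Subtype.ext
          (Submodule.disjoint_def.1 (disjoint_finset_sup hτ hF T ν hνT) _ hx hy), codisjoint_iff.2 ?_⟩
        refine Submodule.map_injective_of_injective R.injective_subtype ?_
        rw [Submodule.map_sup, Submodule.map_comap_subtype, Submodule.map_comap_subtype, inf_eq_right.2 hPR,
          inf_eq_right.2 hQR, Submodule.map_top, Submodule.range_subtype, hRe]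
      have hP' : ∀ x ∈ P', F.restrict hT x ∈ P' := fun x hx => hPs _ hx
      have hQ' : ∀ x ∈ Q', F.restrict hT x ∈ Q' := fun x hx => hQs _ hx
      have hinjR := (bijective_restrict hτ hF R hT).1
      have e1 : detOrd (F.restrict hPs) = detOrd (V := ↥P') ((F.restrict hT).restrict hP') := by
        refine detOrd_congr (V := ↥P') hτ (bijective_restrict hτ hinjR P' hP').1 (Submodule.comapSubtypeEquivOfLe hPR) ?_
        intro x; rfl
      have e2 : detOrd (F.restrict hQs) = detOrd (V := ↥Q') ((F.restrict hT).restrict hQ') := by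
        refine detOrd_congr (V := ↥Q') hτ (bijective_restrict hτ hinjR Q' hQ').1 (Submodule.comapSubtypeEquivOfLe hQR) ?_
        intro x; rfl
      rw [Finset.sum_insert hνT, ih hQs, detOrd_isCompl hτ hinjR hcompl hP' hQ', ← e1, ← e2]
  rw [key S (fun x _ => hStop ▸ Submodule.mem_top)]
  exact (detOrd_congr hτ (bijective_restrict hτ hF _ _).1 (LinearEquiv.ofTop _ hStop) fun x => rfl).symm

end Groth.Agent.IsocLib
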