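import Groth.Agent.IsocLib.SlopeExists

/-!
# The order of the determinant of a semilinear map
-/

set_option autoImplicit false
open Isoc Matrix

universe u v

noncomputable section

namespace Groth.Agent.IsocLib

variable {p : ℕ} [Fact p.Prime] {k : Type u} [Field k] [CharP k p] [PerfectRing k p]
variable {τ : FractionRing (WittVector p k) →+* FractionRing (WittVector p k)}

local notation "W" => WittVector p k
local notation "L" => FractionRing (WittVector p k)

section Plain

variable {V : Type v} [AddCommGroup V] [Module (FractionRing (WittVector p k)) V] {h : ℕ}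

/-- The matrix of `G^n` in the basis `B`. -/
def cmat (B : Module.Basis (Fin h) L V) (G : V →ₛₗ[τ] V) (n : ℕ) : Matrix (Fin h) (Fin h) L :=
  Matrix.of fun i j => B.repr ((⇑G)^[n] (B j)) i

theorem cmat_one (B : Module.Basis (Fin h) L V) (G : V →ₛₗ[τ] V) : (cmat B G 1).det = detCoeff B G := rfl

theorem cmat_add (B : Module.Basis (Fin h) L V) (G : V →ₛₗ[τ] V) (n m : ℕ) :
    cmat B G (n + m) = cmat B G n * (cmat B G m).map (τ ^ n) := by
  ext i j
  rw [Matrix.mul_apply]
  simp only [cmat, Matrix.of_apply, Matrix.map_apply, Function.iterate_add_apply]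
  conv_lhs => rw [← B.sum_repr ((⇑G)^[m] (B j)), ← Isoc.iter_apply, map_sum, map_sum, Finsupp.finsetSum_apply]
  refine Finset.sum_congr rfl fun l _ => ?_
  rw [(Isoc.iter G n).map_smulₛₗ, map_smul, Finsupp.smul_apply, smul_eq_mul, mul_comm]
  rfl

theorem det_cmat (hτ : Good τ) (B : Module.Basis (Fin h) L V) (G : V →ₛₗ[τ] V) {d : ℤ}
    (hd : IsOrdP (detCoeff B G) d) : ∀ n : ℕ, IsOrdP (cmat B G n).det (n * d)
  | 0 => by
    have : cmat B G 0 = 1 := by
      ext i j
      simp [cmat, Matrix.one_apply, Finsupp.single_apply, eq_comm]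
    rw [this, det_one, Nat.cast_zero, zero_mul, ← zpow_zero (p : L)]
    exact IsOrdP.pPow 0
  | n + 1 => by
    rw [cmat_add, det_mul, Nat.cast_succ, add_one_mul]
    refine IsOrdP.mul (det_cmat hτ B G hd n) ?_
    rw [← RingHom.mapMatrix_apply, ← RingHom.map_det, cmat_one]
    exact (hτ.pow n).isOrdP hd

theorem detCoeff_ne_zero (hτ : Good τ) (B : Module.Basis (Fin h) L V) {G : V →ₛₗ[τ] V}
    (hG : Function.Injective G) : detCoeff B G ≠ 0 := by
  intro hdet
  obtain ⟨c, hc0, hc⟩ := Matrix.exists_mulVec_eq_zero_iff.2 hdet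
  choose c' hc' using fun i => hτ.surjective (c i)
  refine hc0 (funext fun i => ?_)
  have h0 : G (∑ j, c' j • B j) = 0 := B.repr.injective <| Finsupp.ext fun l => by
    rw [map_sum, map_sum, Finsupp.finsetSum_apply, map_zero, Finsupp.zero_apply]
    refine Eq.trans (Finset.sum_congr rfl fun j _ => ?_) (congrFun hc l)
    rw [G.map_smulₛₗ, hc', map_smul, Finsupp.smul_apply, smul_eq_mul, mul_comm]
    rfl
  have := Fintype.linearIndependent_iff.1 B.linearIndependent c' (hG (h0.trans (map_zero G).symm)) i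
  rw [← hc', this, map_zero, Pi.zero_apply]

/-- The order of the determinant of `G` on a finite-dimensional space. -/
def detOrd [Module.Finite L V] (G : V →ₛₗ[τ] V) : ℤ := ordp (detCoeff (Module.finBasis L V) G)

end Plain

section Change

variable {V : Type v} [AddCommGroup V] [Module (FractionRing (WittVector p k)) V]

/-- The order of the determinant does not depend on the basis. -/
theorem isOrdP_detCoeff_change (hτ : Good τ) {h h' : ℕ} (B : Module.Basis (Fin h) L V)
    (B' : Module.Basis (Fin h') L V) (G : V →ₛₗ[τ] V) {d : ℤ} (hd : IsOrdP (detCoeff B G) d) :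
    IsOrdP (detCoeff B' G) d := by
  obtain rfl : h = h' := by simpa using Fintype.card_congr (B.indexEquiv B')
  set P := B.toMatrix B' with hPdef
  have hcomm : Matrix.of (fun i j => B.repr (G (B j)) i) * P.map τ =
      P * Matrix.of (fun i j => B'.repr (G (B' j)) i) := by
    ext i j
    have h1 : B.repr (G (B' j)) i = ∑ l, B.repr (G (B l)) i * τ (B.repr (B' j) l) := by
      conv_lhs => rw [← B.sum_repr (B' j), map_sum, map_sum, Finsupp.finsetSum_apply]
      exact Finset.sum_congr rfl fun l _ => by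
        rw [G.map_smulₛₗ, map_smul, Finsupp.smul_apply, smul_eq_mul, mul_comm]
    have h2 : B.repr (G (B' j)) i = ∑ l, B.repr (B' l) i * B'.repr (G (B' j)) l := by
      conv_lhs => rw [← B'.sum_repr (G (B' j)), map_sum, Finsupp.finsetSum_apply]
      exact Finset.sum_congr rfl fun l _ => by rw [map_smul, Finsupp.smul_apply, smul_eq_mul, mul_comm]
    simp only [Matrix.mul_apply, Matrix.of_apply, Matrix.map_apply, hPdef, Module.Basis.toMatrix_apply]
    exact h1.symm.trans h2
  have hP : P.det ≠ 0 := by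
    intro h0
    have := congrArg Matrix.det (B.toMatrix_mul_toMatrix_flip B')
    rw [det_mul, det_one, ← hPdef, h0, zero_mul] at this
    exact zero_ne_one this
  have hdet := congrArg Matrix.det hcomm
  rw [det_mul, det_mul, ← RingHom.mapMatrix_apply, ← RingHom.map_det] at hdet
  have hG0 : detCoeff B G ≠ 0 := IsOrdP.ne_zero hd
  have hτP : τ P.det ≠ 0 := fun h0 => hP ((map_eq_zero τ).1 h0)
  have hne : detCoeff B' G ≠ 0 := fun h0 => by
    change _ = P.det * detCoeff B' G at hdet
    rw [h0, mul_zero] at hdet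
    exact mul_ne_zero hG0 hτP hdet
  have := congrArg ordp hdet
  change ordp (detCoeff B G * τ P.det) = _ at this
  rw [ordp_mul hG0 hτP, hτ.ordp, show ordp (detCoeff B G) = d from ordp_eq hd] at this
  change _ = ordp (P.det * detCoeff B' G) at this
  rw [ordp_mul hP hne] at this
  rw [show d = ordp (detCoeff B' G) by omega]
  exact ordp_spec hne

theorem detOrd_eq (hτ : Good τ) [Module.Finite L V] {h : ℕ} (B : Module.Basis (Fin h) L V) {G : V →ₛₗ[τ] V}
    {d : ℤ} (hd : IsOrdP (detCoeff B G) d) : detOrd G = d :=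
  ordp_eq (isOrdP_detCoeff_change hτ B _ G hd)

theorem isOrdP_detOrd (hτ : Good τ) [Module.Finite L V] {G : V →ₛₗ[τ] V} (hG : Function.Injective G) {h : ℕ}
    (B : Module.Basis (Fin h) L V) : IsOrdP (detCoeff B G) (detOrd G) := by
  have := ordp_spec (detCoeff_ne_zero hτ B hG)
  rwa [detOrd_eq hτ B this]

end Change

section Lattice

variable {N : Type v} [AddCommGroup N] [Module (WittVector p k) N] [Module (FractionRing (WittVector p k)) N]
  [IsScalarTower (WittVector p k) (FractionRing (WittVector p k)) N]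

theorem vGe_cmat {h n : ℕ} {r : ℤ} {B : Module.Basis (Fin h) L N} {G : N →ₛₗ[τ] N}
    (hle : latImg G n (box B) ≤ pPow r (box B)) (i j : Fin h) : VGe (cmat B G n i j) r :=
  mem_pPow_box_iff.1 (hle (mem_latImg_of_mem G n (Submodule.subset_span ⟨j, rfl⟩))) i

/-- `F^n M ⊆ p^r M` forces `r h ≤ n d`. -/
theorem mul_le_of_latImg_le (hτ : Good τ) {h n : ℕ} {r d : ℤ} {G : N →ₛₗ[τ] N} {B : Module.Basis (Fin h) L N}
    (hd : IsOrdP (detCoeff B G) d) {M : Submodule W N} (hM : M.IsLattice L)
    (hle : latImg G n M ≤ pPow r M) : r * h ≤ n * d := by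
  obtain ⟨h', B', rfl⟩ := exists_box hM
  obtain rfl : h = h' := by simpa using Fintype.card_congr (B.indexEquiv B')
  have hd' := det_cmat hτ B' G (isOrdP_detCoeff_change hτ B B' G hd) n
  have hdet : VGe (cmat B' G n).det ((h : ℚ) * r) := by
    rw [Matrix.det_apply']
    refine VGe.sum _ _ fun σ _ => ?_
    have h1 := VGe.prod Finset.univ (fun i => cmat B' G n (σ i) i) (fun _ => (r : ℚ))
      fun i _ => vGe_cmat hle (σ i) i
    rw [Finset.sum_const, Finset.card_univ, Fintype.card_fin, nsmul_eq_mul] at h1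
    have h2 : VGe ((Equiv.Perm.sign σ : ℤ) : L) 0 := vGe_nat_zero.2 ⟨(Equiv.Perm.sign σ : ℤ), map_intCast _ _⟩
    have := h2.mul h1
    rwa [zero_add] at this
  have h3 := hdet.resolve_left (IsOrdP.ne_zero hd')
  rw [ordp_eq hd'] at h3
  have h4 : (h : ℤ) * r ≤ n * d := by exact_mod_cast h3
  linarith

/-- The extremal case. -/
theorem latImg_eq_of_mul_eq (hτ : Good τ) {h n : ℕ} {r d : ℤ} {G : N →ₛₗ[τ] N} {B : Module.Basis (Fin h) L N}
    (hd : IsOrdP (detCoeff B G) d) {M : Submodule W N} (hM : M.IsLattice L)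
    (hle : latImg G n M ≤ pPow r M) (heq : r * h = n * d) : latImg G n M = pPow r M := by
  refine le_antisymm hle ?_
  obtain ⟨h', B', rfl⟩ := exists_box hM
  obtain rfl : h = h' := by simpa using Fintype.card_congr (B.indexEquiv B')
  have hd' := det_cmat hτ B' G (isOrdP_detCoeff_change hτ B B' G hd) n
  choose A hA using fun i j => vGe_int.1 (vGe_cmat hle i j)
  let Am : Matrix (Fin h) (Fin h) W := Matrix.of A
  have hmap : Am.map (algebraMap W L) = (p : L) ^ (-r) • cmat B' G n := by
    ext i j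
    simp [Am, hA]
  have hord : IsOrdP (algebraMap W L Am.det) 0 := by
    rw [RingHom.map_det, RingHom.mapMatrix_apply, hmap, Matrix.det_smul, Fintype.card_fin,
      show (0 : ℤ) = -r * h + n * d by rw [← heq]; ring]
    refine IsOrdP.mul ?_ hd'
    rw [← zpow_natCast ((p : L) ^ (-r)), ← zpow_mul]
    exact IsOrdP.pPow _
  have hunit : IsUnit Am.det := isUnit_iff_ordp.2
    ⟨fun h0 => IsOrdP.ne_zero hord (by rw [h0, map_zero]), ordp_eq hord⟩
  obtain ⟨C, hC⟩ : ∃ C : Matrix (Fin h) (Fin h) W, Am * C = 1 := ⟨Am⁻¹, Matrix.mul_nonsing_inv _ hunit⟩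
  rw [box, pPow_span, Submodule.span_le]
  rintro _ ⟨_, ⟨l, rfl⟩, rfl⟩
  have key : (p : L) ^ r • B' l = ∑ j, C j l • (⇑G)^[n] (B' j) := by
    refine B'.repr.injective (Finsupp.ext fun i => ?_)
    have hent : algebraMap W L ((Am * C) i l) = if i = l then 1 else 0 := by
      rw [hC, Matrix.one_apply]; split <;> simp
    rw [Matrix.mul_apply, map_sum] at hent
    rw [map_smul, Finsupp.smul_apply, map_sum, Finsupp.finsetSum_apply, Module.Basis.repr_self,
      Finsupp.single_apply, smul_eq_mul]
    rw [show (if l = i then (1 : L) else 0) = if i = l then 1 else 0 by simp [eq_comm], ← hent, Finset.mul_sum]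
    refine Finset.sum_congr rfl fun j _ => ?_
    rw [map_mul, w_smul, map_smul, Finsupp.smul_apply, smul_eq_mul]
    simp only [Am, Matrix.of_apply, hA, cmat]
    rw [← mul_assoc, ← mul_assoc, ← zpow_add₀ pL_ne_zero, add_neg_cancel, zpow_zero, one_mul, mul_comm]
  show (p : L) ^ r • B' l ∈ latImg G n (box B')
  rw [key]
  exact Submodule.sum_mem _ fun j _ =>
    Submodule.smul_mem _ _ (mem_latImg_of_mem G n (Submodule.subset_span ⟨j, rfl⟩))

/-- Equality `F^n M = p^r M` forces `r h = n d`. -/
theorem mul_eq_of_latImg_eq (hτ : Good τ) {h n : ℕ} {r d : ℤ} {G : N →ₛₗ[τ] N} {B : Module.Basis (Fin h) L N}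
    (hd : IsOrdP (detCoeff B G) d) {M : Submodule W N} (hM : M.IsLattice L)
    (hFM : latImg G n M = pPow r M) : r * h = n * d := by
  refine le_antisymm (mul_le_of_latImg_le hτ hd hM hFM.le) ?_
  obtain ⟨h', B', rfl⟩ := exists_box hM
  obtain rfl : h = h' := by simpa using Fintype.card_congr (B.indexEquiv B')
  have hd' := det_cmat hτ B' G (isOrdP_detCoeff_change hτ B B' G hd) n
  have hmem : ∀ l, ∃ c : Fin h → L, (∀ j, VGe (c j) (0 : ℤ)) ∧
      (p : L) ^ r • B' l = ∑ j, c j • (⇑G)^[n] (B' j) := fun l => by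
    obtain ⟨m, hm, hml⟩ := (mem_latImg_iff hτ).1 (hFM.ge (smul_mem_pPow (Submodule.subset_span ⟨l, rfl⟩)))
    refine ⟨fun j => (τ ^ n) (B'.repr m j), fun j => ?_, ?_⟩
    · rw [Int.cast_zero]
      exact (hτ.pow n).vGe (vGe_nat_zero.2 (mem_box_iff.1 hm j))
    · rw [← hml]
      conv_lhs => rw [← B'.sum_repr m]
      rw [iter_sum]
      exact Finset.sum_congr rfl fun j _ => iter_smul G n _ _
  choose c hc hcl using hmem
  have hprod : cmat B' G n * Matrix.of (fun j l => c l j) = (p : L) ^ r • (1 : Matrix (Fin h) (Fin h) L) := by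
    ext i l
    have := congrArg (fun x => B'.repr x i) (hcl l)
    simp only [map_smul, Finsupp.smul_apply, Module.Basis.repr_self, Finsupp.single_apply, smul_eq_mul,
      map_sum, Finsupp.finsetSum_apply] at this
    rw [Matrix.mul_apply, Matrix.smul_apply, Matrix.one_apply, smul_eq_mul]
    rw [show (if i = l then (1 : L) else 0) = if l = i then 1 else 0 by simp [eq_comm], this]
    exact Finset.sum_congr rfl fun j _ => mul_comm _ _
  have hdet := congrArg Matrix.det hprod
  rw [det_mul, Matrix.det_smul, det_one, mul_one, Fintype.card_fin, ← zpow_natCast, ← zpow_mul] at hdet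
  have hcne : (Matrix.of fun j l => c l j).det ≠ 0 := fun h0 => by
    rw [h0, mul_zero] at hdet; exact pPowL_ne_zero _ hdet.symm
  have hcint : IntL (Matrix.of fun j l => c l j).det := by
    choose C hC using fun j l => vGe_nat_zero.1 (by simpa using hc l j : VGe (c l j) 0)
    refine ⟨(Matrix.of C).det, ?_⟩
    rw [RingHom.map_det]
    congr 1
    ext j l
    simp [hC]
  have := congrArg ordp hdet
  rw [ordp_mul (IsOrdP.ne_zero hd') hcne, ordp_eq hd', ordp_pPow] at this
  have := ordp_nonneg hcint hcne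
  linarith

end Lattice

end Groth.Agent.IsocLib
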