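import Groth.Agent.IsocLib.Ord
import Mathlib.FieldTheory.Finite.Basic

/-!
# Frobenius on `Frac W(k)` for finite `k`
-/

set_option autoImplicit false
open Isoc

universe u

namespace Groth.Agent.IsocLib

variable {p : ℕ} [Fact p.Prime] {k : Type u} [Field k] [CharP k p] [PerfectRing k p]

local notation "W" => WittVector p k
local notation "L" => FractionRing (WittVector p k)

theorem natCast_eq_zero {n : ℕ} (h : (n : L) = 0) : n = 0 := by
  induction n using Nat.strong_induction_on with
  | _ n ih =>
    by_contra hn
    have hW : (n : W) = 0 := inj_ι (by rw [map_natCast, map_zero]; exact h)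
    have hk : (n : k) = 0 := by
      have := congrArg WittVector.constantCoeff hW
      rwa [map_natCast, map_zero] at this
    obtain ⟨m, rfl⟩ := (CharP.cast_eq_zero_iff k p n).1 hk
    rw [Nat.cast_mul, mul_eq_zero] at h
    have hm := h.resolve_left pL_ne_zero
    have hp := (Fact.out : p.Prime).two_le
    have hlt : m < p * m := by
      rcases Nat.eq_zero_or_pos m with rfl | hm0
      · simp at hn
      · nlinarith
    exact hn (by rw [ih m hlt hm, mul_zero])

theorem frobeniusEquiv_pow_coeff (n : ℕ) (w : W) (i : ℕ) :
    ((WittVector.frobeniusEquiv p k ^ n) w).coeff i = w.coeff i ^ p ^ n := by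
  induction n generalizing w with
  | zero => simp
  | succ n ih =>
    rw [pow_succ, RingAut.mul_apply, ih, WittVector.frobeniusEquiv_apply, WittVector.coeff_frobenius_charP,
      ← pow_mul, pow_succ']

theorem frob_pow (a : ℤ) (n : ℕ) : Isoc.frob p k a ^ n = Isoc.frob p k (a * n) := by
  refine IsLocalization.ringHom_ext (nonZeroDivisors W) (RingHom.ext fun w => ?_)
  rw [RingHom.comp_apply, RingHom.comp_apply, Isoc.frob_algebraMap, zpow_mul, zpow_natCast]
  induction n generalizing w with
  | zero => simp
  | succ n ih =>
    rw [pow_succ, pow_succ, RingHom.coe_mul, Function.comp_apply, Isoc.frob_algebraMap, ih, RingAut.mul_apply]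

theorem frob_card [Fintype k] {m : ℕ} (hk : Fintype.card k = p ^ m) (a : ℤ) :
    Isoc.frob p k (a * m) = RingHom.id L := by
  rw [← Isoc.frob_zero (p := p) (k := k), mul_comm]
  have hone : (WittVector.frobeniusEquiv p k) ^ (m : ℤ) = 1 := by
    rw [zpow_natCast]
    ext w i
    rw [frobeniusEquiv_pow_coeff, ← hk, FiniteField.pow_card]
    rfl
  rw [Isoc.frob, Isoc.frob, zpow_mul, hone, one_zpow, zpow_zero]

end Groth.Agent.IsocLib
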