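import Groth.Agent.IsocLib.Slope

/-!
# Isoclinic isocrystals
-/

set_option autoImplicit false
open Isoc
open scoped Pointwise

universe u v w

noncomputable section

namespace Groth.Agent.IsocLib

variable {p : ℕ} [Fact p.Prime] {k : Type u} [Field k] [CharP k p] [PerfectRing k p]
variable {N : Type v} [AddCommGroup N] [Module (WittVector p k) N] [Module (FractionRing (WittVector p k)) N]
  [IsScalarTower (WittVector p k) (FractionRing (WittVector p k)) N]
variable {N' : Type w} [AddCommGroup N'] [Module (WittVector p k) N'] [Module (FractionRing (WittVector p k)) N']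
  [IsScalarTower (WittVector p k) (FractionRing (WittVector p k)) N']
variable {τ : FractionRing (WittVector p k) →+* FractionRing (WittVector p k)}

local notation "W" => WittVector p k
local notation "L" => FractionRing (WittVector p k)

/-- `P` is a stable subspace on which `F` is isoclinic of slope `μ`, described inside `N`. -/
structure IsoSub (F : N →ₛₗ[τ] N) (P : Submodule L N) (μ : ℚ) : Prop where
  stable : ∀ x ∈ P, F x ∈ P
  lattice : ∃ (M : Submodule W N) (r : ℤ) (s : ℕ), M.FG ∧ Submodule.span L (M : Set N) = P ∧ 0 < s ∧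
    (r : ℚ) / s = μ ∧ latImg F s M = pPow r M

theorem map_iter {F : N →ₛₗ[τ] N} {F' : N' →ₛₗ[τ] N'} {f : N →ₗ[L] N'} (hf : ∀ x, f (F x) = F' (f x))
    (n : ℕ) (x : N) : f ((⇑F)^[n] x) = (⇑F')^[n] (f x) :=
  ((Function.Semiconj.iterate_right (fun y => hf y) n)) x

/-- An equivariant map transports lattice equations. -/
theorem latImg_map (hτ : Good τ) {F : N →ₛₗ[τ] N} {F' : N' →ₛₗ[τ] N'} {f : N →ₗ[L] N'}
    (hf : ∀ x, f (F x) = F' (f x)) (s : ℕ) (M : Submodule W N) :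
    latImg F' s (M.map (f.restrictScalars W)) = (latImg F s M).map (f.restrictScalars W) := by
  ext y
  simp only [mem_latImg_iff hτ, Submodule.mem_map, LinearMap.restrictScalars_apply]
  constructor
  · rintro ⟨_, ⟨x, hx, rfl⟩, rfl⟩
    exact ⟨_, ⟨x, hx, rfl⟩, map_iter hf s x⟩
  · rintro ⟨_, ⟨x, hx, rfl⟩, rfl⟩
    exact ⟨f x, ⟨x, hx, rfl⟩, (map_iter hf s x).symm⟩

theorem pPow_map (f : N →ₗ[L] N') (r : ℤ) (M : Submodule W N) :
    pPow r (M.map (f.restrictScalars W)) = (pPow r M).map (f.restrictScalars W) := by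
  simp only [pPow_eq_map, ← Submodule.map_comp]
  congr 1
  ext x
  simp

theorem span_map (f : N →ₗ[L] N') (M : Submodule W N) :
    Submodule.span L ((M.map (f.restrictScalars W) : Submodule W N') : Set N') =
      (Submodule.span L (M : Set N)).map f := by
  rw [Submodule.map_coe, Submodule.map_span]
  rfl

theorem IsoSub.map (hτ : Good τ) {F : N →ₛₗ[τ] N} {F' : N' →ₛₗ[τ] N'} {f : N →ₗ[L] N'}
    (hf : ∀ x, f (F x) = F' (f x)) {P : Submodule L N} {μ : ℚ} (h : IsoSub F P μ) : IsoSub F' (P.map f) μ := by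
  obtain ⟨M, r, s, hfg, hspan, hs, hrs, hFM⟩ := h.lattice
  refine ⟨?_, M.map (f.restrictScalars W), r, s, hfg.map _, by rw [span_map, hspan], hs, hrs, ?_⟩
  · rintro _ ⟨x, hx, rfl⟩
    exact ⟨F x, h.stable x hx, hf x⟩
  · rw [latImg_map hτ hf, pPow_map, hFM]

theorem subtype_equivariant {F : N →ₛₗ[τ] N} (P : Submodule L N) (hP : ∀ x ∈ P, F x ∈ P) (x : P) :
    P.subtype (F.restrict hP x) = F (P.subtype x) := rfl

theorem IsoSub.of_isIsoclinic (hτ : Good τ) {F : N →ₛₗ[τ] N} {P : Submodule L N} {hP : ∀ x ∈ P, F x ∈ P} {μ : ℚ}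
    (h : IsIsoclinic (F.restrict hP) μ) : IsoSub F P μ := by
  obtain ⟨M, hM, r, s, hs, hrs, hFM⟩ := h
  have := IsoSub.map hτ (subtype_equivariant P hP) (P := ⊤) (μ := μ)
    ⟨fun x _ => Submodule.mem_top, M, r, s, hM.fg, hM.span_eq_top, hs, hrs, hFM⟩
  rwa [Submodule.map_top, Submodule.range_subtype] at this

theorem IsoSub.isIsoclinic (hτ : Good τ) {F : N →ₛₗ[τ] N} {P : Submodule L N} {μ : ℚ} (h : IsoSub F P μ)
    (hP : ∀ x ∈ P, F x ∈ P) : IsIsoclinic (F.restrict hP) μ := by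
  obtain ⟨M, r, s, hfg, hspan, hs, hrs, hFM⟩ := h.lattice
  have hle : ∀ x ∈ M, x ∈ P := fun x hx => hspan ▸ Submodule.subset_span hx
  let M' : Submodule W P := M.comap (P.subtype.restrictScalars W)
  have hinj : Function.Injective (P.subtype.restrictScalars W) := P.injective_subtype
  have hmap : M'.map (P.subtype.restrictScalars W) = M :=
    Submodule.map_comap_eq_of_le fun x hx => ⟨⟨x, hle x hx⟩, rfl⟩
  refine ⟨M', ⟨Submodule.fg_of_fg_map_injective _ hinj (hmap ▸ hfg), ?_⟩, r, s, hs, hrs, ?_⟩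
  · refine Submodule.map_injective_of_injective P.injective_subtype ?_
    rw [← span_map, hmap, hspan, Submodule.map_top, Submodule.range_subtype]
  · refine Submodule.map_injective_of_injective hinj ?_
    rw [← latImg_map hτ (subtype_equivariant P hP), ← pPow_map, hmap, hFM]

theorem IsoSub.of_top (hτ : Good τ) {F : N →ₛₗ[τ] N} {μ : ℚ} (h : IsIsoclinic F μ) : IsoSub F ⊤ μ := by
  obtain ⟨M, hM, r, s, hs, hrs, hFM⟩ := h
  exact ⟨fun x _ => Submodule.mem_top, M, r, s, hM.fg, hM.span_eq_top, hs, hrs, hFM⟩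

theorem IsoSub.bot (F : N →ₛₗ[τ] N) (μ : ℚ) : IsoSub F ⊥ μ := by
  refine ⟨fun x hx => by rw [(Submodule.mem_bot L).1 hx, map_zero]; exact zero_mem _, ⊥, μ.num, μ.den,
    Submodule.fg_bot, by simp, μ.den_pos, Rat.num_div_den μ, ?_⟩
  refine le_antisymm (latImg_le_iff.2 fun m hm => ?_) fun x hx => ?_
  · rw [(Submodule.mem_bot W).1 hm, iter_zero']; exact zero_mem _
  · rw [mem_pPow_iff, Submodule.mem_bot, smul_eq_zero] at hx
    rw [hx.resolve_left (pPowL_ne_zero _)]; exact zero_mem _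

/-- Change `(r, s)` to `(r t, s t)`. -/
theorem IsoSub.sup (hτ : Good τ) {F : N →ₛₗ[τ] N} {P Q : Submodule L N} {μ : ℚ} (h : IsoSub F P μ)
    (h' : IsoSub F Q μ) : IsoSub F (P ⊔ Q) μ := by
  obtain ⟨M, r, s, hfg, hspan, hs, hrs, hFM⟩ := h.lattice
  obtain ⟨M', r', s', hfg', hspan', hs', hrs', hFM'⟩ := h'.lattice
  refine ⟨fun x hx => ?_, M ⊔ M', r * s', s * s', hfg.sup hfg', ?_, Nat.mul_pos hs hs', ?_, ?_⟩
  · obtain ⟨a, ha, b, hb, rfl⟩ := Submodule.mem_sup.1 hx
    rw [map_add]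
    exact Submodule.add_mem_sup (h.stable a ha) (h'.stable b hb)
  · refine le_antisymm (Submodule.span_le.2 fun x hx => ?_) (sup_le ?_ ?_)
    · obtain ⟨a, ha, b, hb, rfl⟩ := Submodule.mem_sup.1 hx
      exact Submodule.add_mem_sup (hspan ▸ Submodule.subset_span ha) (hspan' ▸ Submodule.subset_span hb)
    · rw [← hspan]; exact Submodule.span_mono (show (M : Set N) ⊆ _ from (le_sup_left : M ≤ M ⊔ M'))
    · rw [← hspan']; exact Submodule.span_mono (show (M' : Set N) ⊆ _ from (le_sup_right : M' ≤ M ⊔ M'))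
  · rw [← hrs]
    push_cast
    exact mul_div_mul_right _ _ (by exact_mod_cast hs'.ne')
  · have e : r * (s' : ℤ) = r' * s := by
      have h1 : (r : ℚ) / s = r' / s' := hrs.trans hrs'.symm
      rw [div_eq_div_iff (by exact_mod_cast hs.ne') (by exact_mod_cast hs'.ne')] at h1
      exact_mod_cast h1
    rw [latImg_sup F _ hτ, latImg_mul_eq hτ hFM s', pPow_sup, e, Nat.mul_comm s s', latImg_mul_eq hτ hFM' s]

/-- A stable subspace of an isoclinic piece is isoclinic of the same slope. -/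
theorem IsoSub.of_le (hτ : Good τ) [Module.Finite L N] {F : N →ₛₗ[τ] N} (hF : Function.Injective F)
    {P Q : Submodule L N} {μ : ℚ} (h : IsoSub F P μ) (hQP : Q ≤ P) (hQ : ∀ x ∈ Q, F x ∈ Q) : IsoSub F Q μ := by
  obtain ⟨M, r, s, hfg, hspan, hs, hrs, hFM⟩ := h.lattice
  have : IsNoetherian W M := isNoetherian_of_fg_of_noetherian M hfg
  have hfg' : (M ⊓ Q.restrictScalars W).FG := by
    have : IsNoetherian W ↥(M ⊓ Q.restrictScalars W) := isNoetherian_of_le inf_le_left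
    exact Module.Finite.iff_fg.1 inferInstance
  refine ⟨hQ, M ⊓ Q.restrictScalars W, r, s, hfg', ?_, hs, hrs, ?_⟩
  · refine le_antisymm (Submodule.span_le.2 fun x hx => hx.2) fun x hx => ?_
    obtain ⟨n, hn⟩ := exists_smul_mem_of_mem_span M (x := x) (hspan ▸ hQP hx)
    rw [mem_pPow_iff, neg_neg] at hn
    have h1 : (p : L) ^ (n : ℤ) • x ∈ Submodule.span L ((M ⊓ Q.restrictScalars W : Submodule W N) : Set N) :=
      Submodule.subset_span ⟨hn, Q.smul_mem _ hx⟩
    have h2 := Submodule.smul_mem _ ((p : L) ^ (-(n : ℤ))) h1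
    rwa [smul_smul, ← zpow_add₀ pL_ne_zero, neg_add_cancel, zpow_zero, one_smul] at h2
  · refine le_antisymm (latImg_le_iff.2 fun m hm => ?_) fun y hy => ?_
    · have hQs : (⇑F)^[s] m ∈ Q := by
        rw [← coe_restrict_iter Q hQ ⟨m, hm.2⟩]; exact Submodule.coe_mem _
      have h1 := mem_pPow_iff.1 (hFM ▸ mem_latImg_of_mem F s hm.1)
      exact mem_pPow_iff.2 ⟨h1, Q.smul_mem _ hQs⟩
    · obtain ⟨hyM, hyQ⟩ := mem_pPow_iff.1 hy
      have hyQ' : y ∈ Q := by
        have := Q.smul_mem ((p : L) ^ r) hyQ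
        rwa [smul_smul, ← zpow_add₀ pL_ne_zero, add_neg_cancel, zpow_zero, one_smul] at this
      obtain ⟨m, hm, hmy⟩ := (mem_latImg_iff hτ).1 (hFM ▸ mem_pPow_iff.2 hyM : y ∈ latImg F s M)
      obtain ⟨z, hz⟩ := (bijective_restrict hτ hF Q hQ).2.iterate s ⟨y, hyQ'⟩
      have hzy : (⇑F)^[s] (z : N) = y := by rw [← coe_restrict_iter Q hQ, hz]
      have hzm : (z : N) = m := iter_injective hF s (hzy.trans hmy.symm)
      exact (mem_latImg_iff hτ).2 ⟨m, ⟨hm, hzm ▸ z.2⟩, hmy⟩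

/-- Morphisms between isoclinic isocrystals of different slopes vanish. -/
theorem eq_zero_of_isIsoclinic (hτ : Good τ) {F : N →ₛₗ[τ] N} {F' : N' →ₛₗ[τ] N'} (hF' : Function.Injective F')
    {μ μ' : ℚ} (h : IsIsoclinic F μ) (h' : IsIsoclinic F' μ') (hne : μ ≠ μ') (f : N →ₗ[L] N')
    (hf : ∀ x, f (F x) = F' (f x)) : f = 0 := by
  obtain ⟨M, hM, r, s, hs, hrs, hFM⟩ := h
  obtain ⟨M', hM', r', s', hs', hrs', hFM'⟩ := h'
  obtain ⟨c, hc⟩ := exists_le_pPow_lattice (hM.fg.map (f.restrictScalars W)) hM'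
  have hzero : ∀ x ∈ M, f x = 0 := fun x hx => by
    refine eq_zero_of_forall_mem_pPow hM' fun n => ?_
    have hd : r' * (s : ℤ) - r * s' ≠ 0 := fun h0 => hne (by
      rw [← hrs, ← hrs', div_eq_div_iff (by exact_mod_cast hs.ne') (by exact_mod_cast hs'.ne')]
      exact_mod_cast (by linarith : r * (s' : ℤ) = r' * s))
    have hFj : ∀ j : ℕ, latImg F (s * s' * j) M = pPow (r * s' * j) M := fun j =>
      latImg_mul_eq hτ (latImg_mul_eq hτ hFM s') j
    have hF'j : ∀ j : ℕ, latImg F' (s * s' * j) M' = pPow (r' * s * j) M' := fun j => by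
      rw [Nat.mul_comm s s']; exact latImg_mul_eq hτ (latImg_mul_eq hτ hFM' s) j
    rcases lt_or_gt_of_ne hd with hlt | hgt
    · -- `r / s` is larger
      refine ⟨(r * s' - r' * s) * ((n + c : ℕ) : ℤ) - c, by push_cast; nlinarith, ?_⟩
      obtain ⟨y, hy, hyx⟩ : ∃ y ∈ M, (⇑F)^[s * s' * (n + c)] x = (p : L) ^ (r * s' * ((n + c : ℕ) : ℤ)) • y := by
        have := mem_pPow_iff.1 (hFj (n + c) ▸ mem_latImg_of_mem F (s * s' * (n + c)) hx)
        exact ⟨_, this, by rw [smul_smul, ← zpow_add₀ pL_ne_zero, add_neg_cancel, zpow_zero, one_smul]⟩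
      have h1 : (⇑F')^[s * s' * (n + c)] (f x) ∈ pPow (r * s' * ((n + c : ℕ) : ℤ) + -c) M' := by
        rw [← map_iter hf, hyx, map_smul, smul_mem_pPow_iff, add_sub_cancel_left]
        exact hc ⟨y, hy, rfl⟩
      rw [show r * s' * ((n + c : ℕ) : ℤ) + -c = ((r * s' - r' * s) * ((n + c : ℕ) : ℤ) - c) + r' * s * ((n + c : ℕ) : ℤ) by ring,
        ← pPow_add, ← hF'j, ← latImg_pPow hτ] at h1
      obtain ⟨z, hz, hzx⟩ := (mem_latImg_iff hτ).1 h1
      exact iter_injective hF' _ hzx ▸ hz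
    · refine ⟨(r' * s - r * s') * ((n + c : ℕ) : ℤ) - c, by push_cast; nlinarith, ?_⟩
      obtain ⟨y, hy, hyx⟩ := (mem_latImg_iff hτ).1
        ((hFj (n + c)).ge (smul_mem_pPow hx) : (p : L) ^ (r * s' * ((n + c : ℕ) : ℤ)) • x ∈ _)
      have h1 : (p : L) ^ (r * s' * ((n + c : ℕ) : ℤ)) • f x ∈ pPow (r' * s * ((n + c : ℕ) : ℤ) + -c) M' := by
        rw [← map_smul, ← hyx, map_iter hf, add_comm, ← pPow_add, ← hF'j, ← latImg_pPow hτ]
        exact mem_latImg_of_mem F' _ (hc ⟨y, hy, rfl⟩)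
      rw [smul_mem_pPow_iff] at h1
      convert h1 using 2
      ring
  ext x
  have hx : x ∈ Submodule.span L (M : Set N) := by rw [hM.span_eq_top]; trivial
  rw [LinearMap.zero_apply]
  induction hx using Submodule.span_induction with
  | mem y hy => exact hzero y hy
  | zero => exact map_zero f
  | add y z _ _ hy hz => rw [map_add, hy, hz, add_zero]
  | smul a y _ hy => rw [map_smul, hy, smul_zero]

/-- Pieces of different slopes meet only in zero. -/
theorem IsoSub.disjoint (hτ : Good τ) [Module.Finite L N] {F : N →ₛₗ[τ] N} (hF : Function.Injective F)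
    {P Q : Submodule L N} {μ ν : ℚ} (hP : IsoSub F P μ) (hQ : IsoSub F Q ν) (hne : μ ≠ ν) : Disjoint P Q := by
  have hR : ∀ x ∈ P ⊓ Q, F x ∈ P ⊓ Q := fun x hx => ⟨hP.stable x hx.1, hQ.stable x hx.2⟩
  have := eq_zero_of_isIsoclinic hτ (bijective_restrict hτ hF (P ⊓ Q) hR).1
    ((hP.of_le hτ hF inf_le_left hR).isIsoclinic hτ hR) ((hQ.of_le hτ hF inf_le_right hR).isIsoclinic hτ hR) hne
    LinearMap.id fun _ => rfl
  exact Submodule.disjoint_def.2 fun x hx hy =>
    congrArg Subtype.val (LinearMap.congr_fun this (⟨x, hx, hy⟩ : ↥(P ⊓ Q)))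

theorem isoSub_slopePart (hτ : Good τ) [Module.Finite L N] (F : N →ₛₗ[τ] N) (μ : ℚ) :
    IsoSub F (slopePart F μ) μ := by
  obtain ⟨P, hP, hmax⟩ := set_has_maximal_iff_noetherian.2 (inferInstance : IsNoetherian L N)
    {P : Submodule L N | IsoSub F P μ} ⟨⊥, IsoSub.bot F μ⟩
  have hP' : IsoSub F P μ := hP
  have : slopePart F μ = P := by
    refine le_antisymm (sSup_le ?_) (le_sSup ⟨hP'.stable, hP'.isIsoclinic hτ hP'.stable⟩)
    rintro Q ⟨hQ, hQ'⟩
    by_contra hle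
    exact hmax (P ⊔ Q) (hP'.sup hτ (IsoSub.of_isIsoclinic hτ hQ')) (left_lt_sup.2 hle)
  rw [this]
  exact hP'

theorem IsoSub.le_slopePart (hτ : Good τ) {F : N →ₛₗ[τ] N} {P : Submodule L N} {μ : ℚ} (h : IsoSub F P μ) :
    P ≤ slopePart F μ :=
  le_sSup ⟨h.stable, h.isIsoclinic hτ h.stable⟩

/-- The slope of a non-zero isoclinic isocrystal is `d / h`. -/
theorem isoclinic_mul_eq (hτ : Good τ) [Module.Finite L N] {F : N →ₛₗ[τ] N} (hF : Function.Injective F) {μ : ℚ}
    (h : IsIsoclinic F μ) : μ * (Module.finrank L N : ℚ) = (detOrd F : ℚ) := by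
  obtain ⟨M, hM, r, s, hs, hrs, hFM⟩ := h
  have h1 := mul_eq_of_latImg_eq hτ (isOrdP_detOrd hτ hF (Module.finBasis L N)) hM hFM
  rw [← hrs, div_mul_eq_mul_div, div_eq_iff (by exact_mod_cast hs.ne'), mul_comm (detOrd F : ℚ)]
  exact_mod_cast h1

end Groth.Agent.IsocLib
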