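import Groth.Agent.IsocLib.Split
import Groth.Agent.IsocLib.FiniteField
import Groth.Agent.SigmaLinLib.Witt

/-!
# Fixed vectors of a bijective semilinear map of a lattice over `W(k)`, `k` algebraically closed
-/

set_option autoImplicit false
open Isoc Polynomial

universe u v

noncomputable section

namespace Groth.Agent.IsocLib

variable {p : ℕ} [hp : Fact p.Prime] {k : Type u} [Field k] [CharP k p] [PerfectRing k p]

local notation "W" => WittVector p k
local notation "L" => FractionRing (WittVector p k)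

omit [PerfectRing k p] in
theorem iterate_iterateFrobenius (e i : ℕ) (x : k) :
    (⇑(iterateFrobenius k p e))^[i] x = x ^ p ^ (e * i) := by
  induction i with
  | zero => simp
  | succ i ih => rw [Function.iterate_succ_apply', ih, iterateFrobenius_def, ← pow_mul, ← pow_add, Nat.mul_succ]

theorem H2_iterate [IsAlgClosed k] {e : ℕ} (he : 0 < e) : SigmaLinLib.H2 (iterateFrobenius k p e) := by
  intro n b hb
  classical
  obtain ⟨i₀, hi₀⟩ : ∃ i, b i ≠ 0 := Function.ne_iff.1 hb
  let c : Fin (n + 1) → k := fun i => (⇑(iterateFrobenius k p e))^[i.val] (b (Fin.rev i))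
  let P : k[X] := X - ∑ i : Fin (n + 1), C (c i) * X ^ p ^ (e * (i.val + 1))
  have hne : ∀ i : Fin (n + 1), p ^ (e * (i.val + 1)) ≠ 1 := fun i =>
    (Nat.one_lt_pow (Nat.mul_pos he (Nat.succ_pos _)).ne' hp.out.one_lt).ne'
  have h1 : P.coeff 1 = 1 := by
    simp only [P, coeff_sub, coeff_X_one, finsetSum_coeff, coeff_C_mul, coeff_X_pow]
    rw [Finset.sum_eq_zero fun i _ => by rw [if_neg (hne i).symm, mul_zero], sub_zero]
  have h2 : P.coeff (p ^ (e * ((Fin.rev i₀).val + 1))) = - c (Fin.rev i₀) := by
    simp only [P, coeff_sub, coeff_X, finsetSum_coeff, coeff_C_mul, coeff_X_pow]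
    rw [if_neg (hne _).symm, Finset.sum_eq_single (Fin.rev i₀), if_pos rfl, mul_one, zero_sub]
    · intro i _ hi
      rw [if_neg, mul_zero]
      intro h
      have := Nat.eq_of_mul_eq_mul_left he (Nat.pow_right_injective hp.out.two_le h)
      exact hi (Fin.ext (by omega))
    · simp
  obtain ⟨x, hx0, hx⟩ := SigmaLinLib.exists_root_ne_zero P (hne (Fin.rev i₀)).symm
    (by rw [h1]; exact one_ne_zero) (by
      rw [h2, neg_ne_zero]
      simp only [c, iterate_iterateFrobenius, Fin.rev_rev]
      exact pow_ne_zero _ hi₀)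
  refine ⟨x, hx0, ?_⟩
  simp only [P, eval_sub, eval_X, eval_finsetSum, eval_mul, eval_C, eval_pow, sub_eq_zero] at hx
  conv_lhs => rw [hx]
  refine Finset.sum_congr rfl fun i _ => ?_
  rw [iterate_iterateFrobenius e (i.val + 1), mul_comm]

omit [PerfectRing k p] in
theorem H3_iterate [IsAlgClosed k] {e : ℕ} (he : 0 < e) (c : k) :
    ∃ y, iterateFrobenius k p e y - y + c = 0 := by
  have hq : 1 < p ^ e := Nat.one_lt_pow he.ne' hp.out.one_lt
  obtain ⟨y, hy⟩ := IsAlgClosed.exists_root (X ^ p ^ e - X + C c : k[X]) (by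
    rw [show (X ^ p ^ e - X + C c : k[X]) = X ^ p ^ e + (C c - X) by ring, degree_add_eq_left_of_degree_lt] <;>
      rw [degree_X_pow]
    · exact_mod_cast (by omega : p ^ e ≠ 0)
    · refine lt_of_le_of_lt ((degree_sub_le _ _).trans (max_le (degree_C_le.trans zero_le_one) degree_X_le)) ?_
      exact_mod_cast hq)
  exact ⟨y, by simpa [iterateFrobenius_def] using hy⟩

variable {N : Type v} [AddCommGroup N] [Module (WittVector p k) N] [Module (FractionRing (WittVector p k)) N]
  [IsScalarTower (WittVector p k) (FractionRing (WittVector p k)) N]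

/-- Lang's theorem for lattices. -/
theorem span_fixed [IsAlgClosed k] {σ : L →+* L} (e : ℕ) (he : 0 < e) (hσ : σ = Isoc.frob p k (e : ℤ))
    (G : N →ₛₗ[σ] N) {M : Submodule W N} (hM : M.IsLattice L) (hGM : latImg G 1 M = M) :
    Submodule.span L {v : N | G v = v} = ⊤ := by
  classical
  obtain ⟨n, B, rfl⟩ := exists_box hM
  let σW : W →+* W := ((WittVector.frobeniusEquiv p k) ^ (e : ℤ)).toRingHom
  have hgood : Good σ := hσ ▸ good_frob _
  have hσW : ∀ w, σ (algebraMap W L w) = algebraMap W L (σW w) := fun w => by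
    rw [hσ, Isoc.frob_algebraMap]; rfl
  have hc0 : ∀ w, (σW w).coeff 0 = iterateFrobenius k p e (w.coeff 0) := fun w => by
    show (((WittVector.frobeniusEquiv p k) ^ (e : ℤ)) w).coeff 0 = _
    rw [zpow_natCast, frobeniusEquiv_pow_coeff, iterateFrobenius_def]
  let emb : (Fin n → W) →ₗ[W] N := Fintype.linearCombination W B
  have hemb : ∀ a, emb a = ∑ i, a i • B i := fun a => Fintype.linearCombination_apply _ _ _
  have hembmem : ∀ a, emb a ∈ box B := fun a => by
    rw [hemb]; exact Submodule.sum_mem _ fun i _ => Submodule.smul_mem _ _ (Submodule.subset_span ⟨i, rfl⟩)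
  have hsurj : ∀ x ∈ box B, ∃ a, emb a = x := fun x hx =>
    ⟨_, (hemb _).trans ((Submodule.mem_span_range_iff_exists_fun W).1 hx).choose_spec⟩
  have hrepr : ∀ a i, B.repr (emb a) i = algebraMap W L (a i) := fun a i => by
    rw [hemb]
    simp only [w_smul, map_sum, Finsupp.finsetSum_apply, map_smul, Finsupp.smul_apply, Module.Basis.repr_self,
      Finsupp.single_apply, smul_eq_mul, mul_ite, mul_one, mul_zero, Finset.sum_ite_eq', Finset.mem_univ, if_true]
  have hcol : ∀ i, ∃ a, emb a = G (B i) := fun i =>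
    hsurj _ (hGM.le (mem_latImg_of_mem G 1 (Submodule.subset_span ⟨i, rfl⟩)))
  choose A hA using hcol
  let GW : (Fin n → W) → (Fin n → W) := fun a => ∑ i, σW (a i) • A i
  have hGW : ∀ a, G (emb a) = emb (GW a) := fun a => by
    simp only [GW, map_sum, map_smul, hA]
    rw [hemb, map_sum]
    exact Finset.sum_congr rfl fun i _ => by rw [w_smul, G.map_smulₛₗ, hσW, w_smul]
  let red : (Fin n → W) → (Fin n → k) := fun a i => (a i).coeff 0
  have red_sub : ∀ a b, red (a - b) = red a - red b := fun a b => funext fun i =>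
    map_sub (WittVector.constantCoeff : W →+* k) (a i) (b i)
  have red_add : ∀ a b, red (a + b) = red a + red b := fun a b => funext fun i =>
    map_add (WittVector.constantCoeff : W →+* k) (a i) (b i)
  let T : (Fin n → k) →ₛₗ[iterateFrobenius k p e] (Fin n → k) :=
    { toFun := fun v => ∑ i, iterateFrobenius k p e (v i) • red (A i)
      map_add' := fun v w => by simp [add_smul, Finset.sum_add_distrib]
      map_smul' := fun c v => by simp [Finset.smul_sum, smul_smul] }
  have hredG : ∀ a, red (GW a) = T (red a) := fun a => by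
    funext j
    show WittVector.constantCoeff (GW a j) = _
    simp only [GW, Finset.sum_apply, map_sum, Pi.smul_apply, smul_eq_mul, map_mul, T, LinearMap.coe_mk,
      AddHom.coe_mk, red]
    exact Finset.sum_congr rfl fun i _ => by
      rw [WittVector.constantCoeff_apply, WittVector.constantCoeff_apply, hc0]
  have hred_surj : ∀ v : Fin n → k, ∃ a, red a = v := fun v =>
    ⟨fun i => (WittVector.constantCoeff_surjective p (v i)).choose,
      funext fun i => (WittVector.constantCoeff_surjective p (v i)).choose_spec⟩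
  have hspanT : Submodule.span k (Set.range T) = ⊤ := by
    refine eq_top_iff.2 ((Pi.basisFun k (Fin n)).span_eq.ge.trans (Submodule.span_le.2 ?_))
    rintro _ ⟨j, rfl⟩
    obtain ⟨m, hm, hmj⟩ := (mem_latImg_iff hgood).1 (hGM.ge (Submodule.subset_span ⟨j, rfl⟩) : B j ∈ latImg G 1 (box B))
    obtain ⟨a, rfl⟩ := hsurj m hm
    refine Submodule.subset_span ⟨red a, ?_⟩
    rw [← hredG, Pi.basisFun_apply]
    funext i
    have := hrepr (GW a) i
    rw [← hGW, show G (emb a) = B j from hmj, Module.Basis.repr_self, Finsupp.single_apply] at this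
    have h2 : GW a i = if j = i then 1 else 0 := inj_ι (by rw [← this]; split <;> simp)
    show (GW a i).coeff 0 = _
    rw [h2, Pi.single_apply]
    rcases eq_or_ne i j with rfl | h
    · rw [if_pos rfl, if_pos rfl]; exact WittVector.one_coeff_zero p k
    · rw [if_neg h.symm, if_neg h]; exact WittVector.zero_coeff p k 0
  obtain ⟨⟨b, hb⟩, hbs⟩ := SigmaLinLib.exists_fixed_basis T hspanT (H2_iterate he) (H3_iterate he)
  have hdvd : ∀ w : W, w.coeff 0 = 0 → ∃ z, w = (p : W) * z := fun w hw =>
    Ideal.mem_span_singleton.1 ((WittVector.mem_span_p_iff_coeff_zero_eq_zero w).2 hw)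
  have hGp : ∀ (j : ℕ) (x : N), G ((p : L) ^ (j : ℤ) • x) = (p : L) ^ (j : ℤ) • G x := fun j x => by
    rw [G.map_smulₛₗ, hgood.map_p]
  have lift : ∀ v : Fin n → k, T v = v → ∃ a, red a = v ∧ G (emb a) = emb a := by
    intro v hv
    obtain ⟨a₀, ha₀⟩ := hred_surj v
    have hstep : ∀ (j : ℕ) (x : N), x ∈ box B → G x - x ∈ pPow ((j : ℤ) + 1) (box B) →
        ∃ y ∈ box B, G y - y ∈ pPow ((j : ℤ) + 2) (box B) ∧ y - x ∈ pPow ((j : ℤ) + 1) (box B) := by
      intro j x hxB hx
      obtain ⟨z, hz⟩ := hsurj _ (mem_pPow_iff.1 hx)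
      obtain ⟨yv, hyv⟩ := hbs (red z)
      obtain ⟨y, rfl⟩ := hred_surj yv
      have hred : red (GW y - y + z) = 0 := by
        rw [red_add, red_sub, hredG, ← hyv]
        exact (sub_add_sub_cancel _ _ _).trans (sub_self _)
      choose c hc using fun i => hdvd ((GW y - y + z) i) (congrFun hred i)
      have hcy : G (emb y) - emb y + emb z = (p : L) • emb c := by
        rw [hGW, ← map_sub, ← map_add, show GW y - y + z = (p : W) • c from funext hc, map_smul, w_smul, ι_p]
      refine ⟨x + (p : L) ^ ((j : ℤ) + 1) • emb y, add_mem hxB (pPow_le_pPow (by omega) _ (smul_mem_pPow (hembmem y)) |>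
        (pPow_zero (box B)).le), ?_, by rw [add_sub_cancel_left]; exact smul_mem_pPow (hembmem y)⟩
      rw [map_add, show G ((p : L) ^ ((j : ℤ) + 1) • emb y) = (p : L) ^ ((j : ℤ) + 1) • G (emb y) by
        exact_mod_cast hGp (j + 1) (emb y)]
      have : G x + (p : L) ^ ((j : ℤ) + 1) • G (emb y) - (x + (p : L) ^ ((j : ℤ) + 1) • emb y)
          = (p : L) ^ ((j : ℤ) + 2) • emb c := by
        have hz' : G x - x = (p : L) ^ ((j : ℤ) + 1) • emb z := by
          rw [hz, smul_smul, ← zpow_add₀ pL_ne_zero, add_neg_cancel, zpow_zero, one_smul]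
        have he : (p : L) ^ ((j : ℤ) + 2) • emb c = (p : L) ^ ((j : ℤ) + 1) • ((p : L) • emb c) := by
          rw [smul_smul, ← zpow_add_one₀ pL_ne_zero, show (j : ℤ) + 1 + 1 = (j : ℤ) + 2 by ring]
        rw [he, ← hcy, smul_add, smul_sub, ← hz']
        abel
      rw [this]
      exact smul_mem_pPow (hembmem c)
    have hbase : G (emb a₀) - emb a₀ ∈ pPow ((0 : ℕ) + 1 : ℤ) (box B) := by
      have hred : red (GW a₀ - a₀) = 0 := by rw [red_sub, hredG, ha₀, hv, sub_self]
      choose c hc using fun i => hdvd ((GW a₀ - a₀) i) (congrFun hred i)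
      rw [hGW, ← map_sub, show GW a₀ - a₀ = (p : W) • c from funext hc, map_smul, w_smul, ι_p]
      have := smul_mem_pPow (r := 1) (hembmem c)
      rw [zpow_one] at this
      simpa using this
    choose! f hf1 hf2 hf3 using hstep
    let x : ℕ → N := fun j => Nat.rec (emb a₀) (fun l xl => f l xl) j
    have hx : ∀ j : ℕ, x j ∈ box B ∧ G (x j) - x j ∈ pPow ((j : ℤ) + 1) (box B) := fun j => by
      induction j with
      | zero => exact ⟨hembmem a₀, hbase⟩
      | succ l ih =>
        refine ⟨hf1 l _ ih.1 ih.2, ?_⟩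
        have := hf2 l _ ih.1 ih.2
        rwa [show ((l + 1 : ℕ) : ℤ) + 1 = (l : ℤ) + 2 by push_cast; ring]
    obtain ⟨u, hu, hul⟩ := exists_limit (isLattice_box B).fg x (hembmem a₀)
      fun j => pPow_le_pPow (by omega) _ (hf3 j _ (hx j).1 (hx j).2)
    obtain ⟨a, rfl⟩ := hsurj u hu
    refine ⟨a, ?_, ?_⟩
    · have h1 : emb (a - a₀) ∈ pPow 1 (box B) := by
        rw [map_sub, show emb a - emb a₀ = (emb a - x 1) + (x 1 - x 0) by simp [x]]
        refine add_mem (by exact_mod_cast hul 1) ?_
        have := hf3 0 _ (hx 0).1 (hx 0).2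
        rw [Nat.cast_zero, zero_add] at this
        exact this
      rw [← ha₀]
      funext i
      obtain ⟨w, hw⟩ := vGe_int.1 (mem_pPow_box_iff.1 h1 i)
      rw [hrepr, zpow_neg_one, eq_inv_mul_iff_mul_eq₀ pL_ne_zero, ← ι_p, ← map_mul] at hw
      have := congrArg (WittVector.constantCoeff : W →+* k) (inj_ι hw)
      rw [map_mul, map_natCast, CharP.cast_eq_zero, zero_mul, Pi.sub_apply, map_sub] at this
      exact sub_eq_zero.1 this.symm
    · refine sub_eq_zero.1 (eq_zero_of_forall_mem_pPow (isLattice_box B) fun j => ⟨j, le_rfl, ?_⟩)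
      have h1 : G (emb a - x j) ∈ pPow j (box B) := by
        have := mem_latImg_of_mem G 1 (hul j)
        rwa [latImg_pPow hgood, hGM] at this
      have := add_mem (sub_mem h1 (hul j)) (pPow_le_pPow (by omega) _ (hx j).2)
      rw [map_sub, show G (emb a) - G (x j) - (emb a - x j) + (G (x j) - x j) = G (emb a) - emb a by abel] at this
      exact this
  have hdim : Module.finrank k (Fin n → k) = n := Module.finrank_fin_fun k
  choose a ha haG using fun l : Fin n => lift (b (Fin.cast hdim.symm l)) (hb _)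
  let C : Matrix (Fin n) (Fin n) W := Matrix.of fun i l => a l i
  have hC : (C.map (WittVector.constantCoeff : W →+* k)).det ≠ 0 := by
    let b' := b.reindex (finCongr hdim)
    have : C.map (WittVector.constantCoeff : W →+* k) = (Pi.basisFun k (Fin n)).toMatrix b' := by
      ext i l
      simp only [C, Matrix.map_apply, Matrix.of_apply, Module.Basis.toMatrix_apply, Pi.basisFun_repr, b',
        Module.Basis.reindex_apply]
      rw [show (finCongr hdim).symm l = Fin.cast hdim.symm l from rfl, ← ha l]
      rfl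
    rw [this]
    exact ((Pi.basisFun k (Fin n)).isUnit_det b').ne_zero
  have hC' : IsUnit (B.det fun l => emb (a l)) := by
    rw [Module.Basis.det_apply, isUnit_iff_ne_zero]
    have : B.toMatrix (fun l => emb (a l)) = C.map (algebraMap W L) := by
      ext i l; simp [C, Module.Basis.toMatrix_apply, hrepr]
    rw [this, ← RingHom.mapMatrix_apply, ← RingHom.map_det, map_ne_zero_iff _ inj_ι]
    intro h0
    rw [← RingHom.mapMatrix_apply, ← RingHom.map_det, h0, map_zero] at hC
    exact hC rfl
  rw [eq_top_iff, ← ((Module.Basis.is_basis_iff_det B).2 hC').2]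
  exact Submodule.span_mono (by rintro _ ⟨l, rfl⟩; exact haG l)

end Groth.Agent.IsocLib
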