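import Groth.Agent.IsocLib.Ord

/-!
# Lattices, their multiples by powers of `p` and their images under semilinear maps
-/

set_option autoImplicit false
open scoped Pointwise
open Isoc

universe u v

noncomputable section

namespace Groth.Agent.IsocLib

variable {p : ℕ} [Fact p.Prime] {k : Type u} [Field k] [CharP k p] [PerfectRing k p]
variable {N : Type v} [AddCommGroup N] [Module (WittVector p k) N] [Module (FractionRing (WittVector p k)) N]
  [IsScalarTower (WittVector p k) (FractionRing (WittVector p k)) N]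
variable {τ : FractionRing (WittVector p k) →+* FractionRing (WittVector p k)}

local notation "W" => WittVector p k
local notation "L" => FractionRing (WittVector p k)
local notation "ι" => algebraMap (WittVector p k) (FractionRing (WittVector p k))

theorem w_smul (w : W) (x : N) : w • x = ι w • x := (algebraMap_smul L w x).symm

/-- Multiplication by a scalar of `L`, as a `W`-linear map. -/
def scaleW (c : L) : N →ₗ[W] N where
  toFun x := c • x
  map_add' x y := smul_add c x y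
  map_smul' w x := by
    simp only [RingHom.id_apply, w_smul, smul_smul, mul_comm]

@[simp] theorem scaleW_apply (c : L) (x : N) : scaleW c x = c • x := rfl

theorem pPow_eq_map (r : ℤ) (M : Submodule W N) : pPow r M = M.map (scaleW ((p : L) ^ r)) := by
  ext x
  simp only [pPow, Submodule.mem_map, scaleW_apply]
  exact Submodule.mem_smul_pointwise_iff_exists _ _ _

theorem mem_pPow_iff {r : ℤ} {M : Submodule W N} {x : N} : x ∈ pPow r M ↔ (p : L) ^ (-r) • x ∈ M := by
  rw [pPow_eq_map, Submodule.mem_map]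
  constructor
  · rintro ⟨m, hm, rfl⟩
    rwa [scaleW_apply, smul_smul, ← zpow_add₀ pL_ne_zero, neg_add_cancel, zpow_zero, one_smul]
  · intro h
    exact ⟨_, h, by rw [scaleW_apply, smul_smul, ← zpow_add₀ pL_ne_zero, add_neg_cancel, zpow_zero, one_smul]⟩

theorem smul_mem_pPow {r : ℤ} {M : Submodule W N} {x : N} (hx : x ∈ M) : (p : L) ^ r • x ∈ pPow r M := by
  rw [mem_pPow_iff, smul_smul, ← zpow_add₀ pL_ne_zero, neg_add_cancel, zpow_zero, one_smul]
  exact hx

theorem smul_mem_pPow_iff {r j : ℤ} {M : Submodule W N} {x : N} :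
    (p : L) ^ j • x ∈ pPow r M ↔ x ∈ pPow (r - j) M := by
  rw [mem_pPow_iff, mem_pPow_iff, smul_smul, ← zpow_add₀ pL_ne_zero, neg_sub, neg_add_eq_sub]

theorem pPow_zero (M : Submodule W N) : pPow 0 M = M := by ext; simp [mem_pPow_iff]

theorem pPow_add (r s : ℤ) (M : Submodule W N) : pPow r (pPow s M) = pPow (r + s) M := by
  ext
  rw [mem_pPow_iff, smul_mem_pPow_iff, sub_neg_eq_add, add_comm]

theorem pPow_mono (r : ℤ) {M M' : Submodule W N} (h : M ≤ M') : pPow r M ≤ pPow r M' := fun _ hx =>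
  mem_pPow_iff.2 (h (mem_pPow_iff.1 hx))

theorem pPow_le_pPow {r r' : ℤ} (h : r ≤ r') (M : Submodule W N) : pPow r' M ≤ pPow r M := by
  intro x hx
  rw [mem_pPow_iff] at hx ⊢
  obtain ⟨n, hn⟩ : ∃ n : ℕ, (n : ℤ) = r' - r := ⟨(r' - r).toNat, by omega⟩
  have := M.smul_mem ((p : W) ^ n) hx
  rwa [w_smul, map_pow, ι_p, smul_smul, ← zpow_natCast, ← zpow_add₀ pL_ne_zero,
    show (n : ℤ) + -r' = -r by omega] at this

theorem pPow_sup (r : ℤ) (M M' : Submodule W N) : pPow r (M ⊔ M') = pPow r M ⊔ pPow r M' := by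
  simp [pPow_eq_map, Submodule.map_sup]

theorem pPow_span (r : ℤ) (S : Set N) :
    pPow r (Submodule.span W S) = Submodule.span W ((fun x => (p : L) ^ r • x) '' S) := by
  rw [pPow_eq_map, Submodule.map_span]; rfl

theorem pPow_fg (r : ℤ) {M : Submodule W N} (h : M.FG) : (pPow r M).FG := pPow_eq_map r M ▸ h.map _

/-- Integral scalars preserve submodules. -/
theorem intL_smul_mem {c : L} (hc : IntL c) (M : Submodule W N) {x : N} (hx : x ∈ M) : c • x ∈ M := by
  obtain ⟨w, rfl⟩ := hc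
  exact w_smul w x ▸ M.smul_mem w hx

theorem vGe_smul_mem {c : L} {n : ℤ} (hc : VGe c n) (M : Submodule W N) {x : N} (hx : x ∈ M) :
    c • x ∈ pPow n M := by
  rw [mem_pPow_iff, smul_smul]
  exact intL_smul_mem (vGe_int.1 hc) M hx

theorem isLattice_pPow (r : ℤ) {M : Submodule W N} (hM : M.IsLattice L) : (pPow r M).IsLattice L := by
  refine ⟨pPow_fg r hM.fg, eq_top_iff.2 fun x _ => ?_⟩
  have hx : (p : L) ^ (-r) • x ∈ Submodule.span L (M : Set N) := by rw [hM.span_eq_top]; trivial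
  have hle : Submodule.span L (M : Set N) ≤ Submodule.span L (pPow r M : Set N) := Submodule.span_le.2 fun m hm => by
    have := Submodule.smul_mem _ ((p : L) ^ (-r)) (Submodule.subset_span (R := L) (smul_mem_pPow (r := r) hm))
    rwa [smul_smul, ← zpow_add₀ pL_ne_zero, neg_add_cancel, zpow_zero, one_smul] at this
  have := Submodule.smul_mem _ ((p : L) ^ r) (hle hx)
  rwa [smul_smul, ← zpow_add₀ pL_ne_zero, add_neg_cancel, zpow_zero, one_smul] at this

theorem exists_smul_mem_of_mem_span (M : Submodule W N) {x : N} (hx : x ∈ Submodule.span L (M : Set N)) :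
    ∃ n : ℕ, x ∈ pPow (-(n : ℤ)) M := by
  induction hx using Submodule.span_induction with
  | mem y hy => exact ⟨0, by rw [Nat.cast_zero, neg_zero, pPow_zero]; exact hy⟩
  | zero => exact ⟨0, zero_mem _⟩
  | add y z _ _ hy hz =>
    obtain ⟨a, ha⟩ := hy
    obtain ⟨b, hb⟩ := hz
    exact ⟨max a b, add_mem (pPow_le_pPow (by omega) M ha) (pPow_le_pPow (by omega) M hb)⟩
  | smul c y _ hy =>
    obtain ⟨a, ha⟩ := hy
    refine ⟨a + (-ordp c).toNat, ?_⟩
    have := vGe_smul_mem (n := -((-ordp c).toNat : ℤ)) (c := c) ?_ _ ha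
    · rw [pPow_add] at this
      exact pPow_le_pPow (by omega) M this
    · refine Or.inr ?_
      exact_mod_cast (by omega : -((-ordp c).toNat : ℤ) ≤ ordp c)

theorem exists_le_pPow {M₁ M : Submodule W N} (h : M₁.FG) (hM : M₁ ≤ (Submodule.span L (M : Set N)).restrictScalars W) :
    ∃ n : ℕ, M₁ ≤ pPow (-(n : ℤ)) M := by
  classical
  obtain ⟨s, rfl⟩ := h
  choose f hf using fun x : s => exists_smul_mem_of_mem_span M (hM (Submodule.subset_span x.2))
  refine ⟨s.attach.sup f, Submodule.span_le.2 fun x hx => ?_⟩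
  refine pPow_le_pPow ?_ M (hf ⟨x, hx⟩)
  have : f ⟨x, hx⟩ ≤ s.attach.sup f := Finset.le_sup (Finset.mem_attach _ _)
  omega

theorem exists_le_pPow_lattice {M₁ M : Submodule W N} (h : M₁.FG) (hM : M.IsLattice L) :
    ∃ n : ℕ, M₁ ≤ pPow (-(n : ℤ)) M :=
  exists_le_pPow h fun x _ => by
    show x ∈ Submodule.span L (M : Set N)
    rw [hM.span_eq_top]; trivial

/-! ### Box lattices of bases -/

/-- The lattice spanned by a basis. -/
def box {n : ℕ} (B : Module.Basis (Fin n) L N) : Submodule W N := Submodule.span W (Set.range B)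

theorem isLattice_box {n : ℕ} (B : Module.Basis (Fin n) L N) : (box B).IsLattice L :=
  ⟨Submodule.fg_span (Set.finite_range B), by
    rw [box, Submodule.span_span_of_tower, B.span_eq]⟩

theorem mem_box_iff {n : ℕ} {B : Module.Basis (Fin n) L N} {x : N} :
    x ∈ box B ↔ ∀ i, IntL (B.repr x i) := by
  refine ⟨fun h => ?_, fun h => ?_⟩
  · induction h using Submodule.span_induction with
    | mem y hy =>
      obtain ⟨j, rfl⟩ := hy
      intro i
      rw [Module.Basis.repr_self, Finsupp.single_apply]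
      split
      exacts [⟨1, map_one _⟩, ⟨0, map_zero _⟩]
    | zero => exact fun i => ⟨0, by simp⟩
    | add y z _ _ hy hz => exact fun i => by rw [map_add, Finsupp.add_apply]; exact (hy i).add (hz i)
    | smul w y _ hy =>
      intro i
      obtain ⟨a, ha⟩ := hy i
      exact ⟨w * a, by rw [w_smul, map_smul, Finsupp.smul_apply, smul_eq_mul, map_mul, ha]⟩
  · rw [← B.sum_repr x]
    exact Submodule.sum_mem _ fun i _ => intL_smul_mem (h i) _ (Submodule.subset_span ⟨i, rfl⟩)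

/-- `VB B x q`: all coordinates of `x` have valuation at least `q`. -/
def VB {n : ℕ} (B : Module.Basis (Fin n) L N) (x : N) (q : ℚ) : Prop := ∀ i, VGe (B.repr x i) q

theorem mem_pPow_box_iff {n : ℕ} {B : Module.Basis (Fin n) L N} {x : N} {r : ℤ} :
    x ∈ pPow r (box B) ↔ VB B x r := by
  simp only [mem_pPow_iff, mem_box_iff, VB, vGe_int, map_smul, Finsupp.smul_apply, smul_eq_mul]

theorem exists_box {M : Submodule W N} (hM : M.IsLattice L) :
    ∃ (n : ℕ) (B : Module.Basis (Fin n) L N), M = box B := by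
  have := hM
  have : Module.Free W M := Submodule.IsLattice.free L M
  have : Module.Finite W M := Submodule.IsLattice.finite L M
  let b := Module.finBasis W M
  refine ⟨_, b.extendOfIsLattice L, ?_⟩
  have hb : (⇑(b.extendOfIsLattice L) : Fin _ → N) = M.subtype ∘ ⇑b := by
    ext i; simp
  rw [box, hb, Set.range_comp, ← Submodule.map_span, b.span_eq, Submodule.map_top, Submodule.range_subtype]

/-- A non-zero vector is not infinitely divisible in a lattice. -/
theorem exists_not_mem_pPow {M : Submodule W N} (hM : M.IsLattice L) {x : N} (hx : x ≠ 0) :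
    ∃ r : ℤ, ∀ r', r ≤ r' → x ∉ pPow r' M := by
  obtain ⟨n, B, rfl⟩ := exists_box hM
  obtain ⟨i, hi⟩ : ∃ i, B.repr x i ≠ 0 := by
    by_contra h
    push Not at h
    exact hx (B.repr.injective (Finsupp.ext fun i => by simp [h i]))
  refine ⟨ordp (B.repr x i) + 1, fun r' hr' h => ?_⟩
  have := (mem_pPow_box_iff.1 h i).resolve_left hi
  have : r' ≤ ordp (B.repr x i) := by exact_mod_cast this
  omega

theorem eq_zero_of_forall_mem_pPow {M : Submodule W N} (hM : M.IsLattice L) {x : N}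
    (h : ∀ r : ℕ, ∃ r' : ℤ, (r : ℤ) ≤ r' ∧ x ∈ pPow r' M) : x = 0 := by
  by_contra hx
  obtain ⟨r, hr⟩ := exists_not_mem_pPow hM hx
  obtain ⟨r', hr', hm⟩ := h r.toNat
  exact hr r' (by omega) hm

/-! ### Iterates -/

theorem iter_smul (F : N →ₛₗ[τ] N) (n : ℕ) (c : L) (x : N) : (⇑F)^[n] (c • x) = (τ ^ n) c • (⇑F)^[n] x :=
  (Isoc.iter F n).map_smulₛₗ c x

theorem iter_add (F : N →ₛₗ[τ] N) (n : ℕ) (x y : N) : (⇑F)^[n] (x + y) = (⇑F)^[n] x + (⇑F)^[n] y :=
  (Isoc.iter F n).map_add x y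

theorem iter_zero' (F : N →ₛₗ[τ] N) (n : ℕ) : (⇑F)^[n] 0 = 0 := (Isoc.iter F n).map_zero

theorem iter_sum {β : Type*} (F : N →ₛₗ[τ] N) (n : ℕ) (s : Finset β) (f : β → N) :
    (⇑F)^[n] (∑ i ∈ s, f i) = ∑ i ∈ s, (⇑F)^[n] (f i) :=
  map_sum (Isoc.iter F n) f s

theorem iter_injective {F : N →ₛₗ[τ] N} (hF : Function.Injective F) (n : ℕ) : Function.Injective ((⇑F)^[n]) :=
  hF.iterate n

theorem iter_pPow_smul (hτ : Good τ) (F : N →ₛₗ[τ] N) (n : ℕ) (r : ℤ) (x : N) :
    (⇑F)^[n] ((p : L) ^ r • x) = (p : L) ^ r • (⇑F)^[n] x := by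
  rw [iter_smul, (hτ.pow n).map_p]

theorem latImg_le_iff {F : N →ₛₗ[τ] N} {s : ℕ} {M X : Submodule W N} :
    latImg F s M ≤ X ↔ ∀ m ∈ M, (⇑F)^[s] m ∈ X := by
  rw [latImg, Submodule.span_le, Set.image_subset_iff]; rfl

theorem mem_latImg_of_mem (F : N →ₛₗ[τ] N) (s : ℕ) {M : Submodule W N} {m : N} (hm : m ∈ M) :
    (⇑F)^[s] m ∈ latImg F s M := Submodule.subset_span ⟨m, hm, rfl⟩

theorem mem_latImg_iff (hτ : Good τ) {F : N →ₛₗ[τ] N} {s : ℕ} {M : Submodule W N} {x : N} :
    x ∈ latImg F s M ↔ ∃ m ∈ M, (⇑F)^[s] m = x := by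
  refine ⟨fun h => ?_, fun ⟨m, hm, h⟩ => h ▸ mem_latImg_of_mem F s hm⟩
  induction h using Submodule.span_induction with
  | mem y hy => exact hy
  | zero => exact ⟨0, zero_mem M, iter_zero' F s⟩
  | add y z _ _ hy hz =>
    obtain ⟨a, ha, rfl⟩ := hy
    obtain ⟨b, hb, rfl⟩ := hz
    exact ⟨a + b, add_mem ha hb, iter_add F s a b⟩
  | smul w y _ hy =>
    obtain ⟨a, ha, rfl⟩ := hy
    obtain ⟨w', hw⟩ := (hτ.pow s).surjTo w
    exact ⟨ι w' • a, intL_smul_mem ⟨w', rfl⟩ M ha, by rw [iter_smul, hw, w_smul]⟩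

theorem latImg_mono (F : N →ₛₗ[τ] N) (s : ℕ) {M M' : Submodule W N} (h : M ≤ M') : latImg F s M ≤ latImg F s M' :=
  latImg_le_iff.2 fun _ hm => mem_latImg_of_mem F s (h hm)

theorem latImg_pPow (hτ : Good τ) (F : N →ₛₗ[τ] N) (s : ℕ) (r : ℤ) (M : Submodule W N) :
    latImg F s (pPow r M) = pPow r (latImg F s M) := by
  ext x
  rw [mem_pPow_iff, mem_latImg_iff hτ, mem_latImg_iff hτ]
  constructor
  · rintro ⟨m, hm, rfl⟩
    exact ⟨_, mem_pPow_iff.1 hm, iter_pPow_smul hτ F s (-r) m⟩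
  · rintro ⟨m, hm, h⟩
    exact ⟨_, smul_mem_pPow hm, by rw [iter_pPow_smul hτ, h, smul_smul, ← zpow_add₀ pL_ne_zero, add_neg_cancel,
      zpow_zero, one_smul]⟩

theorem latImg_latImg (hτ : Good τ) (F : N →ₛₗ[τ] N) (s t : ℕ) (M : Submodule W N) :
    latImg F s (latImg F t M) = latImg F (s + t) M := by
  ext x
  simp only [mem_latImg_iff hτ, Function.iterate_add_apply]
  constructor
  · rintro ⟨_, ⟨m, hm, rfl⟩, rfl⟩; exact ⟨m, hm, rfl⟩
  · rintro ⟨m, hm, rfl⟩; exact ⟨_, ⟨m, hm, rfl⟩, rfl⟩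

theorem latImg_sup (F : N →ₛₗ[τ] N) (s : ℕ) (hτ : Good τ) (M M' : Submodule W N) :
    latImg F s (M ⊔ M') = latImg F s M ⊔ latImg F s M' := by
  refine le_antisymm (latImg_le_iff.2 fun m hm => ?_) (sup_le (latImg_mono F s le_sup_left) (latImg_mono F s le_sup_right))
  obtain ⟨a, ha, b, hb, rfl⟩ := Submodule.mem_sup.1 hm
  rw [iter_add]
  exact Submodule.add_mem_sup (mem_latImg_of_mem F s ha) (mem_latImg_of_mem F s hb)

theorem latImg_fg (hτ : Good τ) (F : N →ₛₗ[τ] N) (s : ℕ) {M : Submodule W N} (h : M.FG) : (latImg F s M).FG := by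
  classical
  obtain ⟨S, rfl⟩ := h
  refine ⟨S.image ((⇑F)^[s]), le_antisymm (Submodule.span_le.2 ?_) (latImg_le_iff.2 fun m hm => ?_)⟩
  · rw [Finset.coe_image]
    rintro _ ⟨m, hm, rfl⟩
    exact mem_latImg_of_mem F s (Submodule.subset_span hm)
  · induction hm using Submodule.span_induction with
    | mem y hy => exact Submodule.subset_span (by rw [Finset.coe_image]; exact ⟨y, hy, rfl⟩)
    | zero => rw [iter_zero']; exact zero_mem _
    | add y z _ _ hy hz => rw [iter_add]; exact add_mem hy hz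
    | smul w y _ hy =>
      rw [w_smul, iter_smul]
      exact intL_smul_mem ((hτ.pow s).intL ⟨w, rfl⟩) _ hy

/-- Iterating an inclusion `F^s M ⊆ p^r M`. -/
theorem latImg_mul_le (hτ : Good τ) {F : N →ₛₗ[τ] N} {s : ℕ} {r : ℤ} {M : Submodule W N}
    (h : latImg F s M ≤ pPow r M) : ∀ j : ℕ, latImg F (s * j) M ≤ pPow (r * j) M
  | 0 => by
    rw [Nat.mul_zero, Nat.cast_zero, mul_zero, pPow_zero]
    exact latImg_le_iff.2 fun m hm => hm
  | j + 1 => by
    rw [Nat.mul_succ, add_comm, ← latImg_latImg hτ]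
    refine (latImg_mono F s (latImg_mul_le hτ h j)).trans ?_
    rw [latImg_pPow hτ]
    refine (pPow_mono _ h).trans (le_of_eq ?_)
    rw [pPow_add]; push_cast; ring_nf

theorem latImg_mul_eq (hτ : Good τ) {F : N →ₛₗ[τ] N} {s : ℕ} {r : ℤ} {M : Submodule W N}
    (h : latImg F s M = pPow r M) : ∀ j : ℕ, latImg F (s * j) M = pPow (r * j) M
  | 0 => by
    rw [Nat.mul_zero, Nat.cast_zero, mul_zero, pPow_zero]
    exact le_antisymm (latImg_le_iff.2 fun m hm => hm) fun m hm => mem_latImg_of_mem F 0 hm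
  | j + 1 => by
    rw [Nat.mul_succ, add_comm, ← latImg_latImg hτ, latImg_mul_eq hτ h j, latImg_pPow hτ, h, pPow_add]
    push_cast; ring_nf

/-- Existence of the order of an iterate on a lattice. -/
theorem exists_isOrd (hτ : Good τ) [Nontrivial N] {F : N →ₛₗ[τ] N} (hF : Function.Injective F)
    {M : Submodule W N} (hM : M.IsLattice L) (s : ℕ) : ∃ r, IsOrd M F s r := by
  obtain ⟨x, hx0, hxM⟩ : ∃ x : N, x ≠ 0 ∧ x ∈ M := by
    by_contra h
    push Not at h
    obtain ⟨y, hy⟩ := exists_ne (0 : N)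
    have : Submodule.span L (M : Set N) = ⊥ := Submodule.span_eq_bot.2 fun z hz => by
      by_contra hz0; exact h z hz0 hz
    rw [hM.span_eq_top] at this
    exact hy ((Submodule.mem_bot L).1 (this ▸ Submodule.mem_top))
  have hne : (⇑F)^[s] x ≠ 0 := fun h => hx0 (iter_injective hF s (h.trans (iter_zero' F s).symm))
  obtain ⟨b, hb⟩ := exists_not_mem_pPow hM hne
  obtain ⟨a, ha⟩ := exists_le_pPow_lattice (latImg_fg hτ F s hM.fg) hM
  obtain ⟨r, hr, hmax⟩ := Int.exists_greatest_of_bdd (P := fun r => latImg F s M ≤ pPow r M)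
    ⟨b, fun z hz => by
      by_contra hlt
      exact hb z (by omega) (hz (mem_latImg_of_mem F s hxM))⟩ ⟨_, ha⟩
  exact ⟨r, hr, fun h => by have := hmax _ h; omega⟩

theorem ord_le_iff {F : N →ₛₗ[τ] N} {M : Submodule W N} {s : ℕ} {o : ℤ} (h : IsOrd M F s o) {r : ℤ} :
    latImg F s M ≤ pPow r M ↔ r ≤ o := by
  refine ⟨fun hr => ?_, fun hr => h.1.trans (pPow_le_pPow hr M)⟩
  by_contra hlt
  exact h.2 (hr.trans (pPow_le_pPow (by omega) M))

end Groth.Agent.IsocLib
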