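import Groth.Agent.IsocLib.Isoclinic

/-!
# The standard isocrystals
-/

set_option autoImplicit false
open Isoc

universe u v

noncomputable section

namespace Groth.Agent.IsocLib

variable {p : ℕ} [Fact p.Prime] {k : Type u} [Field k] [CharP k p] [PerfectRing k p]
variable {τ : FractionRing (WittVector p k) →+* FractionRing (WittVector p k)}

local notation "W" => WittVector p k
local notation "L" => FractionRing (WittVector p k)

theorem std_coord (d : ℤ) (m : ℕ) (x : Fin (m + 1) → L) :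
    stdIsoc τ d (m + 1) x 0 = (p : L) ^ d * τ (x (Fin.last m)) ∧
      ∀ i : Fin m, stdIsoc τ d (m + 1) x i.succ = τ (x i.castSucc) := by
  refine ⟨?_, fun i => ?_⟩
  · rw [stdIsoc_apply, if_pos (by simp),
      (Equiv.symm_apply_eq _).2 (show (0 : Fin (m + 1)) = finRotate (m + 1) (Fin.last m) by simp)]
  · rw [stdIsoc_apply, if_neg (by simp), one_mul,
      (Equiv.symm_apply_eq _).2 (show i.succ = finRotate (m + 1) i.castSucc by
        rw [finRotate_succ_apply, Fin.coeSucc_eq_succ])]

theorem std_single_succ (d : ℤ) (m : ℕ) (i : Fin m) :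
    stdIsoc τ d (m + 1) (Pi.single i.castSucc 1) = Pi.single i.succ 1 := by
  obtain ⟨e0, es⟩ := std_coord (τ := τ) d m (Pi.single i.castSucc 1)
  ext l
  induction l using Fin.cases with
  | zero => rw [e0]; simp [Pi.single_apply, (Fin.castSucc_lt_last i).ne', (Fin.succ_ne_zero i).symm]
  | succ l => rw [es]; simp [Pi.single_apply, apply_ite τ]

theorem std_single_last (d : ℤ) (m : ℕ) :
    stdIsoc τ d (m + 1) (Pi.single (Fin.last m) 1) = (p : L) ^ d • Pi.single 0 1 := by
  obtain ⟨e0, es⟩ := std_coord (τ := τ) d m (Pi.single (Fin.last m) 1)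
  ext l
  induction l using Fin.cases with
  | zero => rw [e0]; simp
  | succ l => rw [es]; simp [Pi.single_apply, (Fin.castSucc_lt_last l).ne, Fin.succ_ne_zero]

theorem std_iter_zero (d : ℤ) (m : ℕ) : ∀ i : Fin (m + 1),
    (⇑(stdIsoc τ d (m + 1)))^[i.val] (Pi.single 0 1) = Pi.single i 1 := by
  intro i
  induction i using Fin.induction with
  | zero => rfl
  | succ i ih => rw [Fin.val_succ, Function.iterate_succ_apply', ← Fin.val_castSucc i, ih, std_single_succ]

theorem std_period (hτ : Good τ) (d : ℤ) (m : ℕ) (x : Fin (m + 1) → L) :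
    (⇑(stdIsoc τ d (m + 1)))^[m + 1] x = (p : L) ^ d • fun i => (τ ^ (m + 1)) (x i) := by
  have h0 : (⇑(stdIsoc τ d (m + 1)))^[m + 1] (Pi.single 0 1) = (p : L) ^ d • Pi.single 0 1 := by
    have := std_iter_zero (τ := τ) d m (Fin.last m)
    rw [Fin.val_last] at this
    rw [Function.iterate_succ_apply', this, std_single_last]
  have hi : ∀ i : Fin (m + 1),
      (⇑(stdIsoc τ d (m + 1)))^[m + 1] (Pi.single i 1) = (p : L) ^ d • Pi.single i 1 := fun i => by
    rw [← std_iter_zero d m i, ← Function.iterate_add_apply, Nat.add_comm (m + 1), Function.iterate_add_apply, h0,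
      iter_pPow_smul hτ]
  conv_lhs => rw [pi_eq_sum_univ' x]
  rw [iter_sum]
  simp only [iter_smul, hi, smul_comm ((τ ^ (m + 1)) _) ((p : L) ^ d), ← Finset.smul_sum]
  rw [← pi_eq_sum_univ' (fun i => (τ ^ (m + 1)) (x i))]

theorem isIsoclinic_std (hτ : Good τ) (d : ℤ) (m : ℕ) :
    IsIsoclinic (stdIsoc τ d (m + 1)) ((d : ℚ) / (m + 1 : ℕ)) := by
  let B := Pi.basisFun L (Fin (m + 1))
  refine ⟨box B, isLattice_box B, d, m + 1, m.succ_pos, rfl, le_antisymm (latImg_le_iff.2 fun x hx => ?_) fun y hy => ?_⟩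
  · rw [std_period hτ, mem_pPow_iff, smul_smul, ← zpow_add₀ pL_ne_zero, neg_add_cancel, zpow_zero, one_smul,
      mem_box_iff]
    intro i
    simp only [B, Pi.basisFun_repr]
    exact (hτ.pow _).intL (by simpa [B] using mem_box_iff.1 hx i)
  · have h1 : ∀ i, IntL ((p : L) ^ (-d) * y i) := fun i => by
      simpa [B] using mem_box_iff.1 (mem_pPow_iff.1 hy) i
    choose w hw using h1
    choose z hz using fun i => (hτ.pow (m + 1)).surjTo (w i)
    refine (mem_latImg_iff hτ).2 ⟨fun i => algebraMap W L (z i), mem_box_iff.2 fun i => ⟨z i, by simp [B]⟩, ?_⟩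
    rw [std_period hτ]
    ext i
    rw [Pi.smul_apply, smul_eq_mul, hz, hw, ← mul_assoc, ← zpow_add₀ pL_ne_zero, add_neg_cancel, zpow_zero, one_mul]

theorem std_injective (hτ : Good τ) (d : ℤ) (m : ℕ) : Function.Injective (stdIsoc τ d (m + 1)) := by
  intro x y h
  have h' : (⇑(stdIsoc τ d (m + 1)))^[m + 1] x = (⇑(stdIsoc τ d (m + 1)))^[m + 1] y := by
    rw [Function.iterate_succ_apply, Function.iterate_succ_apply, h]
  rw [std_period hτ, std_period hτ] at h'
  funext i
  exact (τ ^ (m + 1)).injective (congrFun (smul_right_injective _ (pPowL_ne_zero d) h') i)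

/-- Simplicity of the standard isocrystal in lowest terms. -/
theorem std_simple (hτ : Good τ) (d : ℤ) (m : ℕ) (hdh : Int.gcd d (m + 1 : ℕ) = 1)
    (P : Submodule L (Fin (m + 1) → L)) (hP : ∀ x ∈ P, stdIsoc τ d (m + 1) x ∈ P) : P = ⊥ ∨ P = ⊤ := by
  have hinj := std_injective hτ d m
  have h1 := ((IsoSub.of_top hτ (isIsoclinic_std hτ d m)).of_le hτ hinj le_top hP).isIsoclinic hτ hP
  have h2 := isoclinic_mul_eq hτ (bijective_restrict hτ hinj P hP).1 h1
  set e := detOrd ((stdIsoc τ d (m + 1)).restrict hP)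
  have h3 : d * (Module.finrank L P : ℤ) = e * (m + 1 : ℕ) := by
    rw [div_mul_eq_mul_div, div_eq_iff (by positivity)] at h2
    exact_mod_cast h2
  have hdvd : ((m + 1 : ℕ) : ℤ) ∣ (Module.finrank L P : ℤ) :=
    (Int.isCoprime_iff_gcd_eq_one.2 hdh).symm.dvd_of_dvd_mul_left ⟨e, by rw [h3, mul_comm]⟩
  rw [Int.natCast_dvd_natCast] at hdvd
  have hle : Module.finrank L P ≤ m + 1 := by simpa using P.finrank_le
  rcases Nat.eq_zero_or_pos (Module.finrank L P) with h0 | hpos
  · exact Or.inl (Submodule.finrank_eq_zero.1 h0)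
  · exact Or.inr (Submodule.eq_top_of_finrank_eq (by
      rw [Module.finrank_fintype_fun_eq_card, Fintype.card_fin]
      exact le_antisymm hle (Nat.le_of_dvd hpos hdvd)))

end Groth.Agent.IsocLib
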