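import Groth.Agent.IsocLib.Lang
import Groth.Agent.IsocLib.Std
import Groth.Agent.IsocLib.Decomp

/-!
# The theorem of Dieudonné and Manin
-/

set_option autoImplicit false
open Isoc

universe u v

noncomputable section

namespace Groth.Agent.IsocLib

variable {p : ℕ} [Fact p.Prime] {k : Type u} [Field k] [CharP k p] [PerfectRing k p]

local notation "W" => WittVector p k
local notation "L" => FractionRing (WittVector p k)

theorem frob_frob (a b : ℤ) (x : L) : Isoc.frob p k a (Isoc.frob p k b x) = Isoc.frob p k (a + b) x := by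
  have : (Isoc.frob p k a).comp (Isoc.frob p k b) = Isoc.frob p k (a + b) := by
    refine IsLocalization.ringHom_ext (nonZeroDivisors W) (RingHom.ext fun w => ?_)
    simp only [RingHom.comp_apply]
    rw [Isoc.frob_algebraMap, Isoc.frob_algebraMap, Isoc.frob_algebraMap, zpow_add, RingAut.mul_apply]
  exact RingHom.congr_fun this x

variable {N : Type v} [AddCommGroup N] [Module (WittVector p k) N] [Module (FractionRing (WittVector p k)) N]
  [IsScalarTower (WittVector p k) (FractionRing (WittVector p k)) N]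
  [Module.Finite (FractionRing (WittVector p k)) N]

/-- Lang's theorem for every non-trivial twist. -/
theorem span_fixed_int [IsAlgClosed k] {σ : L →+* L} (e : ℤ) (he : e ≠ 0) (hσ : σ = Isoc.frob p k e)
    (G : N →ₛₗ[σ] N) (hG : Function.Injective G) {M : Submodule W N} (hM : M.IsLattice L)
    (hGM : latImg G 1 M = M) : Submodule.span L {v : N | G v = v} = ⊤ := by
  subst hσ
  rcases Int.eq_nat_or_neg e with ⟨n, rfl | rfl⟩
  · exact span_fixed n (by omega) rfl G hM hGM
  have hbij : Function.Bijective G := ⟨hG, surjective_of_injective (good_frob _) hG⟩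
  let g := Equiv.ofBijective G hbij
  let G' : N →ₛₗ[Isoc.frob p k (n : ℤ)] N :=
    { toFun := g.symm
      map_add' := fun x y => hbij.1 <| ((g.apply_symm_apply _).trans
        (congrArg₂ (· + ·) (g.apply_symm_apply x).symm (g.apply_symm_apply y).symm)).trans (G.map_add _ _).symm
      map_smul' := fun c x => hbij.1 <| by
        rw [G.map_smulₛₗ, frob_frob, neg_add_cancel, Isoc.frob_zero, RingHom.id_apply]
        exact (g.apply_symm_apply _).trans (congrArg (c • ·) (g.apply_symm_apply x).symm) }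
  have hG' : latImg G' 1 M = M := by
    refine le_antisymm (latImg_le_iff.2 fun m hm => ?_) fun x hx => ?_
    · obtain ⟨z, hz, rfl⟩ := (mem_latImg_iff (good_frob _)).1 (hGM.ge hm)
      show g.symm (G z) ∈ M
      rwa [show g.symm (G z) = z from g.symm_apply_apply z]
    · exact (mem_latImg_iff (good_frob _)).2 ⟨G x, hGM.le (mem_latImg_of_mem G 1 hx), g.symm_apply_apply x⟩
  have h := span_fixed n (by omega) rfl G' hM hG'
  rw [← h]
  congr 1
  ext v
  show G v = v ↔ g.symm v = v
  rw [Equiv.symm_apply_eq]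
  exact eq_comm

/-- The vectors generating standard sub-isocrystals. -/
def stdVecs {τ : L →+* L} (F : N →ₛₗ[τ] N) : Set N :=
  {v | ∃ (d : ℤ) (m : ℕ), Int.gcd d (m + 1 : ℕ) = 1 ∧ (⇑F)^[m + 1] v = (p : L) ^ d • v}

theorem span_stdVecs_isoclinic [IsAlgClosed k] {a : ℤ} (ha : a ≠ 0) {F : N →ₛₗ[Isoc.frob p k a] N}
    (hF : Function.Injective F) {μ : ℚ} (h : IsIsoclinic F μ) : Submodule.span L (stdVecs F) = ⊤ := by
  have hτ : Good (Isoc.frob p k a) := good_frob a
  obtain ⟨M, hM, r, s, hs, hrs, hFM⟩ := h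
  set d := μ.num with hd
  obtain ⟨m, hm⟩ : ∃ m, μ.den = m + 1 := ⟨μ.den - 1, by have := μ.den_pos; omega⟩
  have hgcd : Int.gcd d (m + 1 : ℕ) = 1 := hm ▸ μ.reduced
  have hμ : (d : ℚ) / (m + 1 : ℕ) = μ := hm ▸ Rat.num_div_den μ
  have hrel : r * (m + 1 : ℕ) = d * s := by
    have := hrs.trans hμ.symm
    rw [div_eq_div_iff (by exact_mod_cast hs.ne') (by positivity)] at this
    exact_mod_cast this
  obtain ⟨t, ht⟩ : ((m + 1 : ℕ) : ℤ) ∣ (s : ℤ) :=
    (Int.isCoprime_iff_gcd_eq_one.2 hgcd).symm.dvd_of_dvd_mul_left ⟨r, by rw [← hrel, mul_comm]⟩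
  have ht0 : 0 < t := by
    have : (0 : ℤ) < s := by exact_mod_cast hs
    rw [ht] at this
    exact pos_of_mul_pos_right this (Int.natCast_nonneg _)
  obtain ⟨t, rfl⟩ := Int.eq_ofNat_of_zero_le ht0.le
  have hs' : s = (m + 1) * t := by exact_mod_cast ht
  have hr : r = d * t := by
    subst hs'
    push_cast at hrel
    exact mul_right_cancel₀ (b := ((m : ℤ) + 1)) (by omega) (by linarith)
  have ht' : 0 < t := by exact_mod_cast ht0
  let G : N →ₛₗ[Isoc.frob p k a ^ (m + 1)] N := (p : L) ^ (-d) • Isoc.iter F (m + 1)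
  have hτG : Good (Isoc.frob p k a ^ (m + 1)) := hτ.pow _
  have hGi : Function.Injective G := injective_twist hF (-d) (m + 1)
  have hGiter : ∀ (n : ℕ) (x : N), (⇑G)^[n] x = (p : L) ^ (-d * n) • (⇑F)^[(m + 1) * n] x := fun n x => by
    induction n with
    | zero => simp
    | succ n ih =>
      rw [Function.iterate_succ_apply', ih, show ∀ y, G y = (p : L) ^ (-d) • (⇑F)^[m + 1] y from fun y => rfl,
        iter_pPow_smul hτ, ← Function.iterate_add_apply, smul_smul, ← zpow_add₀ pL_ne_zero, Nat.mul_succ,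
        add_comm ((m + 1) * n) (m + 1)]
      push_cast
      ring_nf
  have hGt : latImg G t M = M := by
    refine le_antisymm (latImg_le_iff.2 fun x hx => ?_) fun x hx => ?_
    · have := mem_pPow_iff.1 (hFM ▸ mem_latImg_of_mem F s hx)
      rw [hGiter, ← hs', neg_mul, ← hr]
      exact this
    · have : (p : L) ^ r • x ∈ latImg F s M := hFM ▸ smul_mem_pPow hx
      obtain ⟨y, hy, hyx⟩ := (mem_latImg_iff hτ).1 this
      refine (mem_latImg_iff hτG).2 ⟨y, hy, ?_⟩
      rw [hGiter, ← hs', hyx, smul_smul, ← zpow_add₀ pL_ne_zero, hr, neg_mul, neg_add_cancel, zpow_zero, one_smul]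
  have hper : ∀ j : ℕ, latImg G j M = latImg G (j % t) M := fun j => by
    have : ∀ q : ℕ, latImg G (j % t + t * q) M = latImg G (j % t) M := fun q => by
      induction q with
      | zero => rw [Nat.mul_zero, Nat.add_zero (j % t)]
      | succ q ih => rw [Nat.mul_succ, ← Nat.add_assoc, ← latImg_latImg hτG, hGt, ih]
    have h1 := this (j / t)
    rwa [Nat.mod_add_div] at h1
  let M' : Submodule W N := ⨆ j : Fin t, latImg G j.val M
  have hM' : M'.IsLattice L := by
    refine ⟨Submodule.fg_iSup _ fun j => latImg_fg hτG G _ hM.fg, eq_top_iff.2 ?_⟩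
    rw [← hM.span_eq_top]
    refine Submodule.span_mono fun x hx => ?_
    exact (le_iSup (fun j : Fin t => latImg G j.val M) ⟨0, ht'⟩ : _ ≤ _) (mem_latImg_of_mem G 0 hx)
  have hmemM' : ∀ j : ℕ, latImg G j M ≤ M' := fun j => (hper j).le.trans
    (le_iSup (fun j : Fin t => latImg G j.val M) ⟨j % t, Nat.mod_lt _ ht'⟩)
  have hGM' : latImg G 1 M' = M' := by
    refine le_antisymm (latImg_le_iff.2 fun x hx => ?_) (iSup_le fun j => ?_)
    · induction hx using Submodule.iSup_induction' with
      | mem j y hy =>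
        have := mem_latImg_of_mem G 1 hy
        rw [latImg_latImg hτG] at this
        exact hmemM' _ this
      | zero => rw [iter_zero']; exact zero_mem _
      | add y z _ _ hy hz => rw [iter_add]; exact add_mem hy hz
    · rw [show latImg G j.val M = latImg G 1 (latImg G (j.val + (t - 1)) M) by
        rw [latImg_latImg hτG, hper (1 + _), show 1 + (j.val + (t - 1)) = j.val + t by omega, Nat.add_mod_right,
          Nat.mod_eq_of_lt j.2]]
      exact latImg_mono G 1 (hmemM' _)
  have hspan := span_fixed_int (a * (m + 1 : ℕ)) (mul_ne_zero ha (by omega)) (frob_pow a (m + 1)) G hGi hM' hGM'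
  rw [eq_top_iff, ← hspan]
  refine Submodule.span_mono fun v hv => ⟨d, m, hgcd, ?_⟩
  have : (p : L) ^ (-d) • (⇑F)^[m + 1] v = v := hv
  conv_rhs => rw [← this]
  rw [smul_smul, ← zpow_add₀ pL_ne_zero, add_neg_cancel, zpow_zero, one_smul]

theorem span_stdVecs [IsAlgClosed k] {a : ℤ} (ha : a ≠ 0) {F : N →ₛₗ[Isoc.frob p k a] N}
    (hF : Function.Injective F) : Submodule.span L (stdVecs F) = ⊤ := by
  have hτ : Good (Isoc.frob p k a) := good_frob a
  rw [eq_top_iff, ← iSup_slopePart hτ hF]
  refine iSup_le fun μ => ?_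
  have hP := isoSub_slopePart hτ F μ
  have h := span_stdVecs_isoclinic ha (bijective_restrict hτ hF _ hP.stable).1 (hP.isIsoclinic hτ hP.stable)
  calc slopePart F μ = (⊤ : Submodule L (slopePart F μ)).map (slopePart F μ).subtype := by
        rw [Submodule.map_top, Submodule.range_subtype]
    _ ≤ _ := by
        rw [← h, Submodule.map_span]
        refine Submodule.span_mono ?_
        rintro _ ⟨v, ⟨d, m, hg, hv⟩, rfl⟩
        exact ⟨d, m, hg, by
          rw [Submodule.subtype_apply, ← coe_restrict_iter _ hP.stable, hv]; rfl⟩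

/-- The map out of a standard isocrystal given by a vector. -/
def stdMap {τ : L →+* L} (F : N →ₛₗ[τ] N) (m : ℕ) (v : N) : (Fin (m + 1) → L) →ₗ[L] N :=
  Fintype.linearCombination L fun i : Fin (m + 1) => (⇑F)^[i.val] v

theorem stdMap_apply {τ : L →+* L} (F : N →ₛₗ[τ] N) (m : ℕ) (v : N) (x : Fin (m + 1) → L) :
    stdMap F m v x = ∑ i, x i • (⇑F)^[i.val] v := Fintype.linearCombination_apply _ _ _

theorem stdMap_single {τ : L →+* L} (F : N →ₛₗ[τ] N) (m : ℕ) (v : N) :
    stdMap F m v (Pi.single 0 1) = v := by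
  rw [stdMap_apply, Finset.sum_eq_single 0] <;> simp +contextual

theorem stdMap_equivariant {τ : L →+* L} {F : N →ₛₗ[τ] N} {d : ℤ} {m : ℕ} {v : N}
    (hv : (⇑F)^[m + 1] v = (p : L) ^ d • v) (x : Fin (m + 1) → L) :
    stdMap F m v (stdIsoc τ d (m + 1) x) = F (stdMap F m v x) := by
  obtain ⟨e0, es⟩ := std_coord (τ := τ) d m x
  rw [stdMap_apply, stdMap_apply, map_sum, Fin.sum_univ_succ]
  conv_rhs => rw [Fin.sum_univ_castSucc]
  simp only [F.map_smulₛₗ, Fin.val_zero, Fin.val_castSucc, Fin.val_last, Fin.val_succ, e0, es,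
    ← Function.iterate_succ_apply' (⇑F), hv, Function.iterate_zero, id_eq]
  rw [add_comm, smul_smul, mul_comm]

theorem stdMap_range {τ : L →+* L} (hτ : Good τ) {F : N →ₛₗ[τ] N} {d : ℤ} {m : ℕ} {v : N}
    (hv : (⇑F)^[m + 1] v = (p : L) ^ d • v) :
    IsoSub F (LinearMap.range (stdMap F m v)) ((d : ℚ) / (m + 1 : ℕ)) := by
  have := IsoSub.map hτ (stdMap_equivariant hv) (IsoSub.of_top hτ (isIsoclinic_std hτ d m))
  rwa [Submodule.map_top] at this

/-- A standard map either lands in a stable subspace or meets it in zero, injectively. -/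
theorem stdMap_dichotomy {τ : L →+* L} (hτ : Good τ) {F : N →ₛₗ[τ] N} {d : ℤ} {m : ℕ} {v : N}
    (hgcd : Int.gcd d (m + 1 : ℕ) = 1) (hv : (⇑F)^[m + 1] v = (p : L) ^ d • v)
    {X : Submodule L N} (hX : ∀ x ∈ X, F x ∈ X) (hvX : v ∉ X) :
    ∀ g, stdMap F m v g ∈ X → g = 0 := by
  rcases std_simple hτ d m hgcd (X.comap (stdMap F m v))
    (fun x hx => by show stdMap F m v _ ∈ X; rw [stdMap_equivariant hv]; exact hX _ hx) with h | h
  · exact fun g hg => (Submodule.mem_bot L).1 (h ▸ hg : g ∈ (⊥ : Submodule L _))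
  · refine absurd ?_ hvX
    have : Pi.single 0 1 ∈ X.comap (stdMap F m v) := h ▸ Submodule.mem_top
    rwa [Submodule.mem_comap, stdMap_single] at this

/-- Every stable subspace has a stable complement. -/
theorem exists_stable_compl [IsAlgClosed k] {a : ℤ} (ha : a ≠ 0) {F : N →ₛₗ[Isoc.frob p k a] N}
    (hF : Function.Injective F) (P : Submodule L N) (hP : ∀ x ∈ P, F x ∈ P) :
    ∃ Q : Submodule L N, (∀ x ∈ Q, F x ∈ Q) ∧ IsCompl P Q := by
  have hτ : Good (Isoc.frob p k a) := good_frob a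
  obtain ⟨Q, hQ, hmax⟩ := set_has_maximal_iff_noetherian.2 (inferInstance : IsNoetherian L N)
    {Q : Submodule L N | (∀ x ∈ Q, F x ∈ Q) ∧ Disjoint P Q}
    ⟨⊥, fun x hx => by rw [(Submodule.mem_bot L).1 hx, map_zero]; exact zero_mem _, disjoint_bot_right⟩
  obtain ⟨hQs, hdis⟩ : (∀ x ∈ Q, F x ∈ Q) ∧ Disjoint P Q := hQ
  refine ⟨Q, hQs, hdis, codisjoint_iff.2 ?_⟩
  by_contra hne
  obtain ⟨v, hvS, hvX⟩ : ∃ v ∈ stdVecs F, v ∉ P ⊔ Q := by
    by_contra h
    push Not at h
    exact hne (eq_top_iff.2 ((span_stdVecs ha hF).ge.trans (Submodule.span_le.2 h)))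
  obtain ⟨d, m, hgcd, hv⟩ := hvS
  have hX : ∀ x ∈ P ⊔ Q, F x ∈ P ⊔ Q := fun x hx => by
    obtain ⟨y, hy, z, hz, rfl⟩ := Submodule.mem_sup.1 hx
    rw [map_add]; exact Submodule.add_mem_sup (hP y hy) (hQs z hz)
  have hR := (stdMap_range hτ hv).stable
  have hkey := stdMap_dichotomy hτ hgcd hv hX hvX
  refine hmax (Q ⊔ LinearMap.range (stdMap F m v)) ⟨fun x hx => ?_, ?_⟩ ?_
  · obtain ⟨y, hy, z, hz, rfl⟩ := Submodule.mem_sup.1 hx
    rw [map_add]; exact Submodule.add_mem_sup (hQs y hy) (hR z hz)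
  · rw [Submodule.disjoint_def]
    intro x hxP hx
    obtain ⟨y, hy, _, ⟨g, rfl⟩, rfl⟩ := Submodule.mem_sup.1 hx
    have hg : g = 0 := hkey g (by
      have := sub_mem (Submodule.mem_sup_left (T := Q) hxP) (Submodule.mem_sup_right (S := P) hy)
      rwa [add_sub_cancel_left] at this)
    rw [hg, map_zero, add_zero] at hxP ⊢
    exact Submodule.disjoint_def.1 hdis y hxP hy
  · refine left_lt_sup.2 fun hle => hvX (Submodule.mem_sup_right (hle ⟨Pi.single 0 1, stdMap_single F m v⟩))

/-- The sum of a family of standard maps. -/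
def famMap {τ : L →+* L} (F : N →ₛₗ[τ] N) {t : ℕ} (m : Fin t → ℕ) (v : Fin t → N) :
    ((i : Fin t) → (Fin (m i + 1) → L)) →ₗ[L] N :=
  ∑ i, (stdMap F (m i) (v i)).comp (LinearMap.proj i)

theorem famMap_apply {τ : L →+* L} (F : N →ₛₗ[τ] N) {t : ℕ} (m : Fin t → ℕ) (v : Fin t → N)
    (g : (i : Fin t) → (Fin (m i + 1) → L)) : famMap F m v g = ∑ i, stdMap F (m i) (v i) (g i) := by
  simp [famMap]

theorem famMap_equivariant {τ : L →+* L} {F : N →ₛₗ[τ] N} {t : ℕ} {d : Fin t → ℤ} {m : Fin t → ℕ} {v : Fin t → N}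
    (hv : ∀ i, (⇑F)^[m i + 1] (v i) = (p : L) ^ d i • v i) (g : (i : Fin t) → (Fin (m i + 1) → L)) :
    famMap F m v (fun i => stdIsoc τ (d i) (m i + 1) (g i)) = F (famMap F m v g) := by
  rw [famMap_apply, famMap_apply, map_sum]
  exact Finset.sum_congr rfl fun i _ => stdMap_equivariant (hv i) _

theorem exists_family [IsAlgClosed k] {a : ℤ} (ha : a ≠ 0) {F : N →ₛₗ[Isoc.frob p k a] N}
    (hF : Function.Injective F) :
    ∃ (t : ℕ) (d : Fin t → ℤ) (m : Fin t → ℕ) (v : Fin t → N),
      (∀ i, Int.gcd (d i) (m i + 1 : ℕ) = 1 ∧ (⇑F)^[m i + 1] (v i) = (p : L) ^ d i • v i) ∧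
      Function.Bijective (famMap F m v) := by
  have hτ : Good (Isoc.frob p k a) := good_frob a
  have key : ∀ n : ℕ, ∃ (t : ℕ) (d : Fin t → ℤ) (m : Fin t → ℕ) (v : Fin t → N),
      (∀ i, Int.gcd (d i) (m i + 1 : ℕ) = 1 ∧ (⇑F)^[m i + 1] (v i) = (p : L) ^ d i • v i) ∧
      Function.Injective (famMap F m v) ∧
      (Function.Surjective (famMap F m v) ∨ n ≤ t) := by
    intro n
    induction n with
    | zero =>
      exact ⟨0, Fin.elim0, Fin.elim0, Fin.elim0, fun i => i.elim0,
        fun g g' _ => funext fun i => i.elim0, Or.inr le_rfl⟩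
    | succ n ih =>
      obtain ⟨t, d, m, v, hv, hinj, h⟩ := ih
      by_cases hs : Function.Surjective (famMap F m v)
      · exact ⟨t, d, m, v, hv, hinj, Or.inl hs⟩
      have hn : n ≤ t := h.resolve_left hs
      obtain ⟨w, ⟨e, l, hgcd, hw⟩, hwX⟩ : ∃ w ∈ stdVecs F, w ∉ LinearMap.range (famMap F m v) := by
        by_contra hc
        push Not at hc
        exact hs (LinearMap.range_eq_top.1 (eq_top_iff.2 ((span_stdVecs ha hF).ge.trans (Submodule.span_le.2 hc))))
      have hX : ∀ x ∈ LinearMap.range (famMap F m v), F x ∈ LinearMap.range (famMap F m v) := by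
        rintro _ ⟨g, rfl⟩
        exact ⟨_, famMap_equivariant (fun i => (hv i).2) g⟩
      have hkey := stdMap_dichotomy hτ hgcd hw hX hwX
      refine ⟨t + 1, Fin.cons e d, Fin.cons l m, Fin.cons w v, fun i => ?_, ?_, Or.inr (by omega)⟩
      · induction i using Fin.cases with
        | zero => exact ⟨hgcd, hw⟩
        | succ i => exact hv i
      · rw [injective_iff_map_eq_zero]
        intro g hg
        rw [famMap_apply, Fin.sum_univ_succ] at hg
        let g' : (i : Fin t) → (Fin (m i + 1) → L) := fun i => g i.succ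
        let g0 : Fin (l + 1) → L := g 0
        have hg' : stdMap F l w g0 + famMap F m v g' = 0 := by
          rw [famMap_apply]; exact hg
        have h0 : g0 = 0 := hkey _ ⟨-g', by
          rw [map_neg]; exact neg_eq_of_add_eq_zero_left hg'⟩
        have h1 : famMap F m v g' = 0 := by
          rw [h0, map_zero, zero_add] at hg'
          exact hg'
        have h2 : g' = 0 := hinj (h1.trans (map_zero _).symm)
        funext i
        induction i using Fin.cases with
        | zero => exact h0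
        | succ i => exact congrFun h2 i
  obtain ⟨t, d, m, v, hv, hinj, h⟩ := key (Module.finrank L N + 1)
  refine ⟨t, d, m, v, hv, hinj, h.resolve_right fun hle => ?_⟩
  have h1 := LinearMap.finrank_le_finrank_of_injective hinj
  rw [Module.finrank_pi_fintype] at h1
  simp only [Module.finrank_fintype_fun_eq_card, Fintype.card_fin] at h1
  have h2 : t ≤ ∑ i : Fin t, (m i + 1) := by
    rw [Finset.sum_add_distrib]; simp
  omega

/-- The multiplicity of a slope in a decomposition. -/
theorem newtonMult_famMap {τ : L →+* L} (hτ : Good τ) {F : N →ₛₗ[τ] N} (hF : Function.Injective F) {t : ℕ}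
    {d : Fin t → ℤ} {m : Fin t → ℕ} {v : Fin t → N}
    (hv : ∀ i, (⇑F)^[m i + 1] (v i) = (p : L) ^ d i • v i) (hbij : Function.Bijective (famMap F m v)) (μ : ℚ) :
    newtonMult F μ = ∑ i : Fin t, if (d i : ℚ) / (m i + 1 : ℕ) = μ then m i + 1 else 0 := by
  classical
  let f : ℚ → ℕ := fun ν => ∑ i : Fin t, if (d i : ℚ) / (m i + 1 : ℕ) = ν then m i + 1 else 0
  have hle : ∀ ν, f ν ≤ newtonMult F ν := fun ν => by
    let I := {i : Fin t // (d i : ℚ) / (m i + 1 : ℕ) = ν}
    let ext : ((i : I) → (Fin (m i.1 + 1) → L)) →ₗ[L] ((i : Fin t) → (Fin (m i + 1) → L)) :=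
      LinearMap.pi fun i => if h : (d i : ℚ) / (m i + 1 : ℕ) = ν then LinearMap.proj (⟨i, h⟩ : I) else 0
    have hext : Function.Injective ext := fun g g' h => funext fun ⟨i, hi⟩ => by
      have := congrFun h i
      simp only [ext, LinearMap.pi_apply, dif_pos hi, LinearMap.proj_apply] at this
      exact this
    have hmem : ∀ g, famMap F m v (ext g) ∈ slopePart F ν := fun g => by
      rw [famMap_apply]
      refine Submodule.sum_mem _ fun i _ => ?_
      by_cases h : (d i : ℚ) / (m i + 1 : ℕ) = ν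
      · exact ((stdMap_range hτ (hv i)).le_slopePart hτ).trans (le_of_eq (by rw [h])) ⟨_, rfl⟩
      · simp only [ext, LinearMap.pi_apply, dif_neg h, LinearMap.zero_apply, map_zero]
        exact zero_mem _
    have h1 := LinearMap.finrank_le_finrank_of_injective (f := ((famMap F m v).comp ext).codRestrict _ hmem)
      (fun g g' h => hext (hbij.1 (congrArg Subtype.val h)))
    rw [Module.finrank_pi_fintype] at h1
    simp only [Module.finrank_fintype_fun_eq_card, Fintype.card_fin] at h1
    refine le_trans (le_of_eq ?_) h1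
    rw [← Finset.sum_subtype (Finset.univ.filter fun i : Fin t => (d i : ℚ) / (m i + 1 : ℕ) = ν) (fun i => by simp)
      (fun i => m i + 1), Finset.sum_filter]
  obtain ⟨S₀, hS₀, -⟩ := exists_finset_sup_eq_top hτ hF
  let S := S₀ ∪ Finset.univ.image (fun i : Fin t => (d i : ℚ) / (m i + 1 : ℕ)) ∪ {μ}
  have hS : S.sup (slopePart F) = ⊤ := eq_top_iff.2 (hS₀.ge.trans (Finset.sup_mono
    (Finset.subset_union_left.trans Finset.subset_union_left)))
  have hsum : ∀ T : Finset ℚ, Module.finrank L (T.sup (slopePart F) : Submodule L N) = ∑ ν ∈ T, newtonMult F ν := by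
    intro T
    induction T using Finset.induction_on with
    | empty => simp
    | insert ν T hνT ih =>
      have := Submodule.finrank_sup_add_finrank_inf_eq (slopePart F ν) (T.sup (slopePart F))
      rw [(disjoint_finset_sup hτ hF T ν hνT).eq_bot, finrank_bot, add_zero] at this
      rw [Finset.sup_insert, Finset.sum_insert hνT, this, ih]
      rfl
  have htot : ∑ ν ∈ S, f ν = ∑ ν ∈ S, newtonMult F ν := by
    rw [← hsum, hS, finrank_top, ← (LinearEquiv.ofBijective (famMap F m v) hbij).finrank_eq, Module.finrank_pi_fintype]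
    simp only [Module.finrank_fintype_fun_eq_card, Fintype.card_fin, f]
    rw [Finset.sum_comm]
    refine Finset.sum_congr rfl fun i _ => ?_
    rw [Finset.sum_ite_eq, if_pos (by simp [S])]
  exact ((Finset.sum_eq_sum_iff_of_le fun ν _ => hle ν).1 htot μ (by simp [S])).symm

end Groth.Agent.IsocLib
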