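import Groth.Prelude.Def_Isoc

/-!
# The `p`-adic order on `Frac W(k)` and twists preserving it
-/

set_option autoImplicit false
open scoped Pointwise

universe u v

namespace Groth.Agent.IsocLib

variable {p : ℕ} [Fact p.Prime] {k : Type u} [Field k] [CharP k p] [PerfectRing k p]

local notation "W" => WittVector p k
local notation "L" => FractionRing (WittVector p k)
local notation "ι" => algebraMap (WittVector p k) (FractionRing (WittVector p k))

theorem inj_ι : Function.Injective (ι) := IsFractionRing.injective W L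

theorem ι_p : ι (p : W) = (p : L) := map_natCast _ _

theorem pL_ne_zero : (p : L) ≠ 0 := by
  rw [← ι_p, map_ne_zero_iff _ inj_ι]
  exact WittVector.p_nonzero p k

theorem pPowL_ne_zero (r : ℤ) : (p : L) ^ r ≠ 0 := zpow_ne_zero _ pL_ne_zero

/-- Membership in `W`. -/
def IntL (c : L) : Prop := ∃ w : W, ι w = c

theorem IntL.pow_p (n : ℕ) : IntL ((p : L) ^ (n : ℤ)) :=
  ⟨(p : W) ^ n, by rw [map_pow, ι_p, zpow_natCast]⟩

theorem exists_isOrdP {c : L} (hc : c ≠ 0) : ∃ r, Isoc.IsOrdP c r := by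
  obtain ⟨a, b, hb, rfl⟩ := IsFractionRing.div_surjective (A := W) c
  have hb0 : b ≠ 0 := nonZeroDivisors.ne_zero hb
  have ha0 : a ≠ 0 := by rintro rfl; simp at hc
  obtain ⟨m, u, rfl⟩ := WittVector.exists_eq_pow_p_mul' a ha0
  obtain ⟨n, w, rfl⟩ := WittVector.exists_eq_pow_p_mul' b hb0
  refine ⟨(m : ℤ) - n, u * w⁻¹, ?_⟩
  rw [Units.val_mul, map_mul, map_mul, map_mul, map_pow, map_pow, ι_p, zpow_sub₀ pL_ne_zero, zpow_natCast,
    zpow_natCast, map_units_inv]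
  have hn : (p : L) ^ n ≠ 0 := pow_ne_zero _ pL_ne_zero
  have hw : ι (w : W) ≠ 0 := (map_ne_zero_iff _ inj_ι).2 w.ne_zero
  field_simp

theorem isOrdP_le {r r' : ℤ} {w : W} {u : Wˣ} (h : (p : L) ^ r * ι (u : W) = (p : L) ^ r' * ι w) :
    r' ≤ r := by
  by_contra hlt
  obtain ⟨n, hn⟩ : ∃ n : ℕ, r' = r + (n + 1 : ℕ) := ⟨(r' - r - 1).toNat, by omega⟩
  rw [hn, zpow_add₀ pL_ne_zero, mul_assoc, zpow_natCast, ← ι_p, ← map_pow, ← map_mul, ι_p] at h
  have h' : (u : W) = (p : W) ^ (n + 1) * w := inj_ι (mul_left_cancel₀ (pPowL_ne_zero r) h)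
  refine (WittVector.irreducible p (k := k)).not_isUnit (isUnit_of_dvd_unit ?_ u.isUnit)
  rw [h']
  exact Dvd.dvd.mul_right (dvd_pow_self _ n.succ_ne_zero) w

theorem IsOrdP.unique {c : L} {r r' : ℤ} (h : Isoc.IsOrdP c r) (h' : Isoc.IsOrdP c r') : r = r' := by
  obtain ⟨u, rfl⟩ := h
  obtain ⟨u', hu'⟩ := h'
  exact le_antisymm (isOrdP_le hu'.symm) (isOrdP_le hu')

theorem IsOrdP.ne_zero {c : L} {r : ℤ} (h : Isoc.IsOrdP c r) : c ≠ 0 := by
  obtain ⟨u, rfl⟩ := h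
  exact mul_ne_zero (pPowL_ne_zero r) ((map_ne_zero_iff _ inj_ι).2 u.ne_zero)

/-- The normalised valuation; junk `0` at zero. -/
noncomputable def ordp (c : L) : ℤ := by
  classical exact if h : c ≠ 0 then (exists_isOrdP h).choose else 0

theorem ordp_spec {c : L} (h : c ≠ 0) : Isoc.IsOrdP c (ordp c) := by
  rw [ordp, dif_pos h]
  exact (exists_isOrdP h).choose_spec

theorem ordp_eq {c : L} {r : ℤ} (h : Isoc.IsOrdP c r) : ordp c = r :=
  IsOrdP.unique (ordp_spec (IsOrdP.ne_zero h)) h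

theorem IsOrdP.pPow (r : ℤ) : Isoc.IsOrdP ((p : L) ^ r) r := ⟨1, by simp⟩

theorem ordp_pPow (r : ℤ) : ordp ((p : L) ^ r) = r := ordp_eq (IsOrdP.pPow r)

theorem ordp_one : ordp (1 : L) = 0 := by simpa using ordp_pPow (p := p) (k := k) 0

theorem IsOrdP.mul {c c' : L} {r r' : ℤ} (h : Isoc.IsOrdP c r) (h' : Isoc.IsOrdP c' r') :
    Isoc.IsOrdP (c * c') (r + r') := by
  obtain ⟨u, rfl⟩ := h
  obtain ⟨u', rfl⟩ := h'
  exact ⟨u * u', by rw [Units.val_mul, map_mul, zpow_add₀ pL_ne_zero]; ring⟩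

theorem ordp_mul {c c' : L} (h : c ≠ 0) (h' : c' ≠ 0) : ordp (c * c') = ordp c + ordp c' :=
  ordp_eq (IsOrdP.mul (ordp_spec h) (ordp_spec h'))

theorem ordp_neg (c : L) : ordp (-c) = ordp c := by
  rcases eq_or_ne c 0 with rfl | h
  · rw [neg_zero]
  obtain ⟨u, hu⟩ := ordp_spec h
  exact ordp_eq ⟨-u, by rw [Units.val_neg, map_neg, mul_neg, ← hu]⟩

theorem intL_pPow_mul {c : L} {n : ℤ} (hn : c = 0 ∨ n ≤ ordp c) : IntL ((p : L) ^ (-n) * c) := by
  rcases eq_or_ne c 0 with rfl | h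
  · exact ⟨0, by simp⟩
  have hn := hn.resolve_left h
  obtain ⟨u, hu⟩ := ordp_spec h
  obtain ⟨m, hm⟩ : ∃ m : ℕ, (m : ℤ) = -n + ordp c := ⟨(-n + ordp c).toNat, by omega⟩
  refine ⟨(p : W) ^ m * u, ?_⟩
  conv_rhs => rw [hu]
  rw [← mul_assoc, ← zpow_add₀ pL_ne_zero, ← hm, map_mul, map_pow, ι_p, zpow_natCast]

theorem ordp_nonneg {c : L} (h : IntL c) (hc : c ≠ 0) : 0 ≤ ordp c := by
  obtain ⟨u, hu⟩ := ordp_spec hc
  obtain ⟨w, rfl⟩ := h
  exact isOrdP_le (r' := 0) (w := w) (by rw [zpow_zero, one_mul, ← hu])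

theorem isUnit_iff_ordp {w : W} : IsUnit w ↔ w ≠ 0 ∧ ordp (ι w) = 0 := by
  refine ⟨?_, fun ⟨h0, h⟩ => ?_⟩
  · rintro ⟨u, rfl⟩
    exact ⟨u.ne_zero, ordp_eq ⟨u, by simp⟩⟩
  · obtain ⟨u, hu⟩ := ordp_spec ((map_ne_zero_iff _ inj_ι).2 h0 : ι w ≠ 0)
    rw [h, zpow_zero, one_mul] at hu
    exact inj_ι hu ▸ u.isUnit

/-- `v(c) ≥ q` for a rational bound `q`. -/
def VGe (c : L) (q : ℚ) : Prop := c = 0 ∨ q ≤ (ordp c : ℚ)

/-- `v(c) > q`. -/
def VGt (c : L) (q : ℚ) : Prop := c = 0 ∨ q < (ordp c : ℚ)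

/-- `v(c) = q`. -/
def VEq (c : L) (q : ℚ) : Prop := c ≠ 0 ∧ (ordp c : ℚ) = q

theorem vGe_zero (q : ℚ) : VGe (0 : L) q := Or.inl rfl

theorem vGt_zero (q : ℚ) : VGt (0 : L) q := Or.inl rfl

theorem VGe.mono {c : L} {q q' : ℚ} (h : VGe c q) (hq : q' ≤ q) : VGe c q' := h.imp_right hq.trans

theorem VGt.vGe {c : L} {q : ℚ} (h : VGt c q) : VGe c q := h.imp_right le_of_lt

theorem VEq.vGe {c : L} {q : ℚ} (h : VEq c q) : VGe c q := Or.inr h.2.ge

theorem vGe_one : VGe (1 : L) 0 := Or.inr (by simp [ordp_one])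

theorem vEq_one : VEq (1 : L) 0 := ⟨one_ne_zero, by simp [ordp_one]⟩

theorem vEq_pPow (r : ℤ) : VEq ((p : L) ^ r) r := ⟨pPowL_ne_zero r, by rw [ordp_pPow]⟩

theorem vGe_int {c : L} {n : ℤ} : VGe c n ↔ IntL ((p : L) ^ (-n) * c) := by
  refine ⟨fun h => intL_pPow_mul (h.imp_right fun h => by exact_mod_cast h), fun h => ?_⟩
  rcases eq_or_ne c 0 with rfl | hc
  · exact vGe_zero _
  have := ordp_nonneg h (mul_ne_zero (pPowL_ne_zero _) hc)
  rw [ordp_mul (pPowL_ne_zero _) hc, ordp_pPow] at this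
  exact Or.inr (by exact_mod_cast (by omega : n ≤ ordp c))

theorem vGe_nat_zero {c : L} : VGe c 0 ↔ IntL c := by
  simpa using vGe_int (c := c) (n := 0)

theorem IntL.add {c d : L} (hc : IntL c) (hd : IntL d) : IntL (c + d) := by
  obtain ⟨a, rfl⟩ := hc
  obtain ⟨b, rfl⟩ := hd
  exact ⟨a + b, map_add _ _ _⟩

theorem VGe.add {c d : L} {q : ℚ} (hc : VGe c q) (hd : VGe d q) : VGe (c + d) q := by
  rcases eq_or_ne c 0 with rfl | hc0
  · simpa using hd
  rcases eq_or_ne d 0 with rfl | hd0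
  · simpa using hc
  have hc' := hc.resolve_left hc0
  have hd' := hd.resolve_left hd0
  set n := min (ordp c) (ordp d) with hn
  have h1 : VGe c n := Or.inr (by exact_mod_cast min_le_left _ _)
  have h2 : VGe d n := Or.inr (by exact_mod_cast min_le_right _ _)
  have h3 : VGe (c + d) n := vGe_int.2 (by rw [mul_add]; exact (vGe_int.1 h1).add (vGe_int.1 h2))
  refine h3.mono ?_
  rcases min_choice (ordp c) (ordp d) with e | e <;> rw [hn, e] <;> assumption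

theorem VGe.neg {c : L} {q : ℚ} (h : VGe c q) : VGe (-c) q := by
  rwa [VGe, neg_eq_zero, ordp_neg]

theorem VGe.sub {c d : L} {q : ℚ} (hc : VGe c q) (hd : VGe d q) : VGe (c - d) q :=
  sub_eq_add_neg c d ▸ hc.add hd.neg

theorem VGe.sum {β : Type*} (s : Finset β) (f : β → L) {q : ℚ} (h : ∀ i ∈ s, VGe (f i) q) :
    VGe (∑ i ∈ s, f i) q :=
  Finset.sum_induction f (fun c => VGe c q) (fun _ _ => VGe.add) (vGe_zero q) h

theorem VGe.mul {c d : L} {q q' : ℚ} (hc : VGe c q) (hd : VGe d q') : VGe (c * d) (q + q') := by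
  rcases eq_or_ne c 0 with rfl | hc0
  · exact Or.inl (zero_mul d)
  rcases eq_or_ne d 0 with rfl | hd0
  · exact Or.inl (mul_zero c)
  refine Or.inr ?_
  rw [ordp_mul hc0 hd0]
  push_cast
  exact add_le_add (hc.resolve_left hc0) (hd.resolve_left hd0)

theorem VGe.prod {β : Type*} (s : Finset β) (f : β → L) (q : β → ℚ) (h : ∀ i ∈ s, VGe (f i) (q i)) :
    VGe (∏ i ∈ s, f i) (∑ i ∈ s, q i) := by
  classical
  induction s using Finset.induction_on with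
  | empty => simpa using vGe_one
  | insert a s ha ih =>
    rw [Finset.prod_insert ha, Finset.sum_insert ha]
    exact (h a (Finset.mem_insert_self a s)).mul (ih fun i hi => h i (Finset.mem_insert_of_mem hi))

theorem VEq.mul_vGt {c d : L} {q q' : ℚ} (hc : VGe c q) (hd : VGt d q') : VGt (c * d) (q + q') := by
  rcases eq_or_ne c 0 with rfl | hc0
  · exact Or.inl (zero_mul d)
  rcases eq_or_ne d 0 with rfl | hd0
  · exact Or.inl (mul_zero c)
  refine Or.inr ?_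
  rw [ordp_mul hc0 hd0]
  push_cast
  exact add_lt_add_of_le_of_lt (hc.resolve_left hc0) (hd.resolve_left hd0)

theorem VEq.mul {c d : L} {q q' : ℚ} (hc : VEq c q) (hd : VEq d q') : VEq (c * d) (q + q') :=
  ⟨mul_ne_zero hc.1 hd.1, by rw [ordp_mul hc.1 hd.1, Int.cast_add, hc.2, hd.2]⟩

theorem vGt_iff {c : L} {q : ℚ} : VGt c q ↔ ∃ q', q < q' ∧ VGe c q' := by
  refine ⟨fun h => ?_, fun ⟨q', hq, h⟩ => h.imp_right hq.trans_le⟩
  rcases h with rfl | h
  · exact ⟨q + 1, by linarith, vGe_zero _⟩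
  · exact ⟨_, h, Or.inr le_rfl⟩

theorem VGt.add {c d : L} {q : ℚ} (hc : VGt c q) (hd : VGt d q) : VGt (c + d) q := by
  obtain ⟨a, ha, hc⟩ := vGt_iff.1 hc
  obtain ⟨b, hb, hd⟩ := vGt_iff.1 hd
  exact vGt_iff.2 ⟨min a b, lt_min ha hb, (hc.mono (min_le_left _ _)).add (hd.mono (min_le_right _ _))⟩

theorem VEq.add_vGt {c d : L} {q : ℚ} (hc : VEq c q) (hd : VGt d q) : VEq (c + d) q := by
  have hne : ¬ VGt (c + d) q := fun h => by
    have h' : VGt c q := by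
      obtain ⟨b, hb, hd⟩ := vGt_iff.1 hd
      have := h.add (vGt_iff.2 ⟨b, hb, hd.neg⟩)
      rwa [add_neg_cancel_right] at this
    exact absurd hc.2 (ne_of_gt (h'.resolve_left hc.1))
  rw [VGt, not_or, not_lt] at hne
  exact ⟨hne.1, le_antisymm hne.2 ((hc.vGe.add hd.vGe).resolve_left hne.1)⟩

/-- A twist that is an automorphism of `W`. -/
structure Good (τ : L →+* L) : Prop where
  mapsTo : ∀ w : W, ∃ w' : W, τ (ι w) = ι w'
  surjTo : ∀ w : W, ∃ w' : W, τ (ι w') = ι w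

theorem good_frob (a : ℤ) : Good (Isoc.frob p k a) :=
  ⟨fun w => ⟨_, Isoc.frob_algebraMap p k a w⟩, fun w =>
    ⟨(WittVector.frobeniusEquiv p k ^ a).symm w, by rw [Isoc.frob_algebraMap, RingEquiv.apply_symm_apply]⟩⟩

namespace Good

variable {τ τ' : FractionRing (WittVector p k) →+* FractionRing (WittVector p k)}

theorem id : Good (p := p) (k := k) (RingHom.id L) := ⟨fun w => ⟨w, rfl⟩, fun w => ⟨w, rfl⟩⟩

theorem comp (h : Good τ) (h' : Good τ') : Good (τ * τ') := by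
  refine ⟨fun w => ?_, fun w => ?_⟩
  · obtain ⟨a, ha⟩ := h'.mapsTo w
    obtain ⟨b, hb⟩ := h.mapsTo a
    exact ⟨b, by rw [RingHom.coe_mul, Function.comp_apply, ha, hb]⟩
  · obtain ⟨a, ha⟩ := h.surjTo w
    obtain ⟨b, hb⟩ := h'.surjTo a
    exact ⟨b, by rw [RingHom.coe_mul, Function.comp_apply, hb, ha]⟩

theorem pow (h : Good τ) : ∀ n : ℕ, Good (τ ^ n)
  | 0 => by rw [pow_zero]; exact Good.id
  | n + 1 => by rw [pow_succ]; exact (h.pow n).comp h

theorem surjective (h : Good τ) : Function.Surjective τ := fun c => by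
  obtain ⟨a, b, -, rfl⟩ := IsFractionRing.div_surjective (A := W) c
  obtain ⟨a', ha⟩ := h.surjTo a
  obtain ⟨b', hb⟩ := h.surjTo b
  exact ⟨ι a' / ι b', by rw [map_div₀, ha, hb]⟩

theorem intL (h : Good τ) {c : L} (hc : IntL c) : IntL (τ c) := by
  obtain ⟨w, rfl⟩ := hc
  obtain ⟨w', hw⟩ := h.mapsTo w
  exact ⟨w', hw.symm⟩

theorem isUnit (h : Good τ) (u : Wˣ) : ∃ u' : Wˣ, τ (ι (u : W)) = ι (u' : W) := by
  obtain ⟨a, ha⟩ := h.mapsTo u
  obtain ⟨b, hb⟩ := h.mapsTo (↑u⁻¹ : W)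
  have : a * b = 1 := inj_ι (by rw [map_mul, ← ha, ← hb, ← map_mul, ← map_mul]; simp)
  exact ⟨Units.mkOfMulEqOne a b this, ha⟩

theorem map_p (_h : Good τ) (r : ℤ) : τ ((p : L) ^ r) = (p : L) ^ r := by rw [map_zpow₀, map_natCast]

theorem isOrdP (h : Good τ) {c : L} {r : ℤ} (hc : Isoc.IsOrdP c r) : Isoc.IsOrdP (τ c) r := by
  obtain ⟨u, rfl⟩ := hc
  obtain ⟨u', hu⟩ := h.isUnit u
  exact ⟨u', by rw [map_mul, h.map_p, hu]⟩

theorem ordp (h : Good τ) (c : L) : Groth.Agent.IsocLib.ordp (τ c) = Groth.Agent.IsocLib.ordp c := by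
  rcases eq_or_ne c 0 with rfl | hc
  · rw [map_zero]
  exact ordp_eq (h.isOrdP (ordp_spec hc))

theorem vGe (h : Good τ) {c : L} {q : ℚ} (hc : VGe c q) : VGe (τ c) q := by
  rcases hc with rfl | hc
  · exact Or.inl (map_zero τ)
  · exact Or.inr (by rwa [h.ordp])

theorem vGt (h : Good τ) {c : L} {q : ℚ} (hc : VGt c q) : VGt (τ c) q := by
  rcases hc with rfl | hc
  · exact Or.inl (map_zero τ)
  · exact Or.inr (by rwa [h.ordp])

theorem vEq (h : Good τ) {c : L} {q : ℚ} (hc : VEq c q) : VEq (τ c) q :=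
  ⟨fun h0 => hc.1 ((map_eq_zero τ).1 h0), by rw [h.ordp]; exact hc.2⟩

end Good

end Groth.Agent.IsocLib
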