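import Groth.Agent.IsocLib.Det
import Mathlib.Analysis.SpecificLimits.Basic

/-!
# The first slope and lattices
-/

set_option autoImplicit false
open Isoc Filter Topology

universe u v

noncomputable section

namespace Groth.Agent.IsocLib

variable {p : ℕ} [Fact p.Prime] {k : Type u} [Field k] [CharP k p] [PerfectRing k p]
variable {N : Type v} [AddCommGroup N] [Module (WittVector p k) N] [Module (FractionRing (WittVector p k)) N]
  [IsScalarTower (WittVector p k) (FractionRing (WittVector p k)) N]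
variable {τ : FractionRing (WittVector p k) →+* FractionRing (WittVector p k)}

local notation "W" => WittVector p k
local notation "L" => FractionRing (WittVector p k)

theorem exists_slope' (hτ : Good τ) [Module.Finite L N] [Nontrivial N] (F : N →ₛₗ[τ] N)
    (hF : Function.Injective F) : ∃ q : ℚ, q.den ≤ Module.finrank L N ∧ Slope F q :=
  exists_slope hτ _ F hF le_rfl

/-- The orders on a lattice stay at bounded distance from `q n`. -/
theorem Slope.bound (hτ : Good τ) {F : N →ₛₗ[τ] N} {q : ℚ} (hq : Slope F q) {M : Submodule W N}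
    (hM : M.IsLattice L) : ∃ C : ℚ, ∀ n o, IsOrd M F n o → q * n - C ≤ o ∧ (o : ℚ) ≤ q * n + C := by
  obtain ⟨h, B, rfl⟩ := exists_box hM
  obtain ⟨⟨C₁, hC₁⟩, x, C₂, hC₂⟩ := hq h B
  obtain ⟨c, c0, hc⟩ := exists_vb B x
  refine ⟨|C₁| + 1 + |C₂| + (c + 1), fun n o ho => ?_⟩
  have := abs_nonneg C₂
  have := abs_nonneg C₁
  have := le_abs_self C₁
  have := le_abs_self C₂
  constructor
  · have hle : latImg F n (box B) ≤ pPow ⌊q * n - C₁⌋ (box B) := latImg_le_iff.2 fun m hm => by
      rw [← pPow_zero (box B)] at hm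
      refine mem_pPow_box_iff.2 (vb_mono (hC₁ n m 0 ?_) ?_)
      · simpa using mem_pPow_box_iff.1 hm
      · have := Int.floor_le (q * n - C₁); linarith
    have h1 : (⌊q * n - C₁⌋ : ℚ) ≤ o := by exact_mod_cast (ord_le_iff ho).1 hle
    have := Int.lt_floor_add_one (q * n - C₁)
    linarith
  · by_contra hlt
    push Not at hlt
    have hfl : ((⌈c⌉ : ℤ) : ℚ) ≤ c + 1 := (Int.ceil_lt_add_one c).le
    have hxm : x ∈ pPow (-⌈c⌉) (box B) := mem_pPow_box_iff.2 (vb_mono hc (by
      push_cast; linarith [Int.le_ceil c]))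
    have hmem := (latImg_pPow hτ F n (-⌈c⌉) (box B)).le.trans (pPow_mono _ ho.1) (mem_latImg_of_mem F n hxm)
    rw [pPow_add, mem_pPow_box_iff] at hmem
    refine hC₂ n (vb_mono hmem ?_)
    push_cast
    linarith

/-- The orders on a lattice grow like `q n`. -/
theorem Slope.tendsto (hτ : Good τ) {F : N →ₛₗ[τ] N} {q : ℚ} (hq : Slope F q) {M : Submodule W N}
    (hM : M.IsLattice L) {o : ℕ → ℤ} (ho : ∀ n : ℕ, 1 ≤ n → IsOrd M F n (o n)) :
    Tendsto (fun n : ℕ => (o n : ℝ) / n) atTop (𝓝 (q : ℝ)) := by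
  obtain ⟨C, hC⟩ := hq.bound hτ hM
  have h1 : Tendsto (fun n : ℕ => (q : ℝ) - (C : ℝ) / n) atTop (𝓝 (q : ℝ)) := by
    simpa using tendsto_const_nhds.sub (tendsto_const_div_atTop_nhds_zero_nat (C : ℝ))
  have h2 : Tendsto (fun n : ℕ => (q : ℝ) + (C : ℝ) / n) atTop (𝓝 (q : ℝ)) := by
    simpa using tendsto_const_nhds.add (tendsto_const_div_atTop_nhds_zero_nat (C : ℝ))
  refine tendsto_of_tendsto_of_tendsto_of_le_of_le' h1 h2 ?_ ?_ <;>
    filter_upwards [eventually_ge_atTop 1] with n hn <;>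
    · obtain ⟨ha, hb⟩ := hC n _ (ho n hn)
      have hn' : (0 : ℝ) < n := by exact_mod_cast hn
      have ha' : (q : ℝ) * n - C ≤ o n := by exact_mod_cast ha
      have hb' : (o n : ℝ) ≤ q * n + C := by exact_mod_cast hb
      field_simp
      linarith

omit [PerfectRing k p] in
theorem nontrivial_of_isFirstSlope {F : N →ₛₗ[τ] N} {lam : ℝ} (h : IsFirstSlope F lam) : Nontrivial N := by
  obtain ⟨M, -, o, ho, -⟩ := h
  by_contra hN
  rw [not_nontrivial_iff_subsingleton] at hN
  exact (ho 1 le_rfl).2 fun x _ => by rw [Subsingleton.elim x 0]; exact zero_mem _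

theorem Slope.eq_of_isFirstSlope (hτ : Good τ) {F : N →ₛₗ[τ] N} {q : ℚ} (hq : Slope F q) {lam : ℝ}
    (h : IsFirstSlope F lam) : lam = (q : ℝ) := by
  obtain ⟨M, hM, o, ho, hlim⟩ := h
  exact tendsto_nhds_unique hlim (hq.tendsto hτ hM ho)

theorem Slope.isFirstSlope (hτ : Good τ) [Nontrivial N] {F : N →ₛₗ[τ] N} (hF : Function.Injective F) {q : ℚ}
    (hq : Slope F q) {M : Submodule W N} (hM : M.IsLattice L) : IsFirstSlope F (q : ℝ) := by
  choose o ho using fun n => exists_isOrd hτ hF hM n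
  exact ⟨M, hM, o, fun n _ => ho n, hq.tendsto hτ hM fun n _ => ho n⟩

theorem exists_lattice [Module.Finite L N] : ∃ M : Submodule W N, M.IsLattice L :=
  ⟨_, isLattice_box (Module.finBasis L N)⟩

/-- The slope is at least every `r / s` realised by an inclusion. -/
theorem Slope.div_le_of_latImg_le (hτ : Good τ) [Nontrivial N] {F : N →ₛₗ[τ] N} (hF : Function.Injective F)
    {q : ℚ} (hq : Slope F q) {M : Submodule W N} (hM : M.IsLattice L) {r : ℤ} {s : ℕ} (hs : 0 < s)
    (hle : latImg F s M ≤ pPow r M) : (r : ℚ) / s ≤ q := by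
  obtain ⟨C, hC⟩ := hq.bound hτ hM
  by_contra hlt
  push Not at hlt
  have hpos : 0 < (r : ℚ) / s - q := by linarith
  obtain ⟨j, hj⟩ := exists_nat_gt (C / ((s : ℚ) * ((r : ℚ) / s - q)))
  have hs' : (0 : ℚ) < s := by exact_mod_cast hs
  rw [div_lt_iff₀ (by positivity)] at hj
  obtain ⟨o, ho⟩ := exists_isOrd hτ hF hM (s * j)
  have h1 : ((r * j : ℤ) : ℚ) ≤ o := by exact_mod_cast (ord_le_iff ho).1 (latImg_mul_le hτ hle j)
  have h2 := (hC _ _ ho).2
  push_cast at h1 h2
  have h3 : (s : ℚ) * ((r : ℚ) / s - q) = r - s * q := by field_simp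
  rw [h3] at hj
  linarith

/-- A lattice realising any inclusion allowed by the slope. -/
theorem Slope.exists_latImg_le (hτ : Good τ) [Module.Finite L N] {F : N →ₛₗ[τ] N} {q : ℚ} (hq : Slope F q)
    {r : ℤ} {s : ℕ} (hrs : (r : ℚ) ≤ q * s) :
    ∃ M : Submodule W N, M.IsLattice L ∧ latImg F s M ≤ pPow r M := by
  let B := Module.finBasis L N
  obtain ⟨⟨C, hC⟩, -⟩ := hq _ B
  let v : ℕ × Fin (Module.finrank L N) → N := fun x => (p : L) ^ (-(r * x.1)) • (⇑F)^[s * x.1] (B x.2)
  let M := Submodule.span W (Set.range v)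
  have hbound : M ≤ pPow ⌊-C⌋ (box B) := by
    refine Submodule.span_le.2 ?_
    rintro _ ⟨⟨j, i⟩, rfl⟩
    refine mem_pPow_box_iff.2 (vb_mono (vb_smul (vEq_pPow (-(r * j))).vGe (hC (s * j) (B i) 0 fun l => ?_)) ?_)
    · rw [Module.Basis.repr_self, Finsupp.single_apply]
      split <;> [exact vGe_one; exact vGe_zero _]
    · have := Int.floor_le (-C)
      have : (r : ℚ) * j ≤ q * s * j := mul_le_mul_of_nonneg_right hrs (Nat.cast_nonneg j)
      push_cast
      linarith
  have hfg : M.FG := by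
    have : IsNoetherian W (pPow ⌊-C⌋ (box B) : Submodule W N) := isNoetherian_of_fg_of_noetherian _
      (pPow_fg _ (isLattice_box B).fg)
    have : IsNoetherian W M := isNoetherian_of_le hbound
    exact Module.Finite.iff_fg.1 inferInstance
  have hbox : box B ≤ M := Submodule.span_le.2 (by
    rintro _ ⟨i, rfl⟩
    exact Submodule.subset_span ⟨(0, i), by simp [v]⟩)
  refine ⟨M, ⟨hfg, eq_top_iff.2 ?_⟩, latImg_le_iff.2 fun m hm => ?_⟩
  · rw [← (isLattice_box B).span_eq_top]
    exact Submodule.span_mono hbox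
  · induction hm using Submodule.span_induction with
    | mem y hy =>
      obtain ⟨⟨j, i⟩, rfl⟩ := hy
      have : (⇑F)^[s] (v (j, i)) = (p : L) ^ r • v (j + 1, i) := by
        simp only [v]
        rw [iter_pPow_smul hτ, ← Function.iterate_add_apply, smul_smul, ← zpow_add₀ pL_ne_zero, Nat.mul_succ,
          add_comm (s * j) s]
        push_cast
        ring_nf
      rw [this]
      exact smul_mem_pPow (Submodule.subset_span ⟨_, rfl⟩)
    | zero => rw [iter_zero']; exact zero_mem _
    | add y z _ _ hy hz => rw [iter_add]; exact add_mem hy hz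
    | smul w y _ hy => rw [w_smul, iter_smul]; exact intL_smul_mem ((hτ.pow s).intL ⟨w, rfl⟩) _ hy

/-- An equality `F^s M = p^r M` determines the slope. -/
theorem slope_eq_of_latImg_eq (hτ : Good τ) [Nontrivial N] {F : N →ₛₗ[τ] N} (hF : Function.Injective F)
    {q : ℚ} (hq : Slope F q) {M : Submodule W N} (hM : M.IsLattice L) {r : ℤ} {s : ℕ} (hs : 0 < s)
    (hFM : latImg F s M = pPow r M) : q = (r : ℚ) / s := by
  refine le_antisymm ?_ (hq.div_le_of_latImg_le hτ hF hM hs hFM.le)
  obtain ⟨C, hC⟩ := hq.bound hτ hM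
  have hord : ∀ j : ℕ, IsOrd M F (s * j) (r * j) := fun j => by
    obtain ⟨o, ho⟩ := exists_isOrd hτ hF hM (s * j)
    have h1 := (ord_le_iff ho).1 (latImg_mul_eq hτ hFM j).le
    rcases h1.lt_or_eq with hlt | heq
    · exfalso
      have h2 := ho.1
      rw [latImg_mul_eq hτ hFM j] at h2
      have h3 : M ≤ pPow 1 M := fun x hx => by
        have h4 := pPow_le_pPow (show r * (j : ℤ) + 1 ≤ o by omega) M (h2 (smul_mem_pPow hx))
        rw [smul_mem_pPow_iff] at h4
        rwa [show r * (j : ℤ) + 1 - r * j = 1 by ring] at h4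
      have hiter : ∀ n : ℕ, M ≤ pPow n M := fun n => by
        induction n with
        | zero => rw [Nat.cast_zero, pPow_zero]
        | succ n ih =>
          refine h3.trans ((pPow_mono 1 ih).trans (le_of_eq ?_))
          rw [pPow_add]; push_cast; ring_nf
      obtain ⟨x, hx⟩ := exists_ne (0 : N)
      have hzero : M = ⊥ := eq_bot_iff.2 fun y hy => by
        rw [Submodule.mem_bot]
        exact eq_zero_of_forall_mem_pPow hM fun n => ⟨n, le_rfl, hiter n hy⟩
      have := hM.span_eq_top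
      rw [hzero] at this
      simp only [Submodule.bot_coe, Submodule.span_zero_singleton] at this
      exact hx ((Submodule.mem_bot L).1 (this ▸ Submodule.mem_top))
    · exact heq ▸ ho
  by_contra hlt
  push Not at hlt
  have hpos : 0 < q - (r : ℚ) / s := by linarith
  have hs' : (0 : ℚ) < s := by exact_mod_cast hs
  obtain ⟨j, hj⟩ := exists_nat_gt (C / ((s : ℚ) * (q - (r : ℚ) / s)))
  rw [div_lt_iff₀ (by positivity)] at hj
  have h2 := (hC _ _ (hord j)).1
  push_cast at h2
  have h3 : (s : ℚ) * (q - (r : ℚ) / s) = s * q - r := by field_simp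
  rw [h3] at hj
  linarith

/-- The slope of a twisted iterate. -/
theorem Slope.twist (hτ : Good τ) {F : N →ₛₗ[τ] N} {q : ℚ} (hq : Slope F q) (m : ℤ) (n : ℕ) :
    Slope ((p : L) ^ m • Isoc.iter F n) (q * n + m) := by
  have hiter : ∀ (i : ℕ) (x : N), (⇑((p : L) ^ m • Isoc.iter F n))^[i] x = (p : L) ^ (m * i) • (⇑F)^[n * i] x := by
    intro i x
    induction i with
    | zero => simp
    | succ i ih =>
      rw [Function.iterate_succ_apply', ih, LinearMap.smul_apply, Isoc.iter_apply, iter_pPow_smul hτ,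
        ← Function.iterate_add_apply, smul_smul, ← zpow_add₀ pL_ne_zero, Nat.mul_succ, add_comm (n * i) n]
      push_cast
      ring_nf
  refine fun h B => ?_
  obtain ⟨⟨C, hC⟩, x, D, hD⟩ := hq h B
  refine ⟨⟨C, fun i y t hy => ?_⟩, ⟨x, D, fun i hi => hD (n * i) ?_⟩⟩
  · rw [hiter]
    refine vb_mono (vb_smul (vEq_pPow _).vGe (hC (n * i) y t hy)) ?_
    push_cast; linarith
  · rw [hiter] at hi
    have := vb_smul (vEq_pPow (-(m * i))).vGe hi
    rw [smul_smul, ← zpow_add₀ pL_ne_zero, neg_add_cancel, zpow_zero, one_smul] at this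
    refine vb_mono this ?_
    push_cast; linarith

theorem good_pow_smul (hτ : Good τ) (n : ℕ) : Good (τ ^ n) := hτ.pow n

theorem injective_twist {F : N →ₛₗ[τ] N} (hF : Function.Injective F) (m : ℤ) (n : ℕ) :
    Function.Injective ((p : L) ^ m • Isoc.iter F n) := fun x y h =>
  iter_injective hF n (smul_right_injective N (pPowL_ne_zero m) h)

end Groth.Agent.IsocLib
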