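import Groth.Agent.IsocLib.Bounds

/-!
# Existence of the first slope
-/

set_option autoImplicit false
open Isoc

universe u v

noncomputable section

namespace Groth.Agent.IsocLib

variable {p : ℕ} [Fact p.Prime] {k : Type u} [Field k] [CharP k p] [PerfectRing k p]
variable {V : Type v} [AddCommGroup V] [Module (FractionRing (WittVector p k)) V]
variable {τ : FractionRing (WittVector p k) →+* FractionRing (WittVector p k)}

local notation "L" => FractionRing (WittVector p k)

/-- A semilinear injection of a finite-dimensional space is bijective. -/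
theorem surjective_of_injective (hτ : Good τ) [Module.Finite L V] {G : V →ₛₗ[τ] V} (hG : Function.Injective G) :
    Function.Surjective G := by
  let b := Module.finBasis L V
  have hli : LinearIndependent L (fun i => G (b i)) := by
    rw [Fintype.linearIndependent_iff]
    intro g hg i
    choose g' hg' using fun i => hτ.surjective (g i)
    have h0 : G (∑ i, g' i • b i) = 0 := by
      rw [map_sum, ← hg]
      exact Finset.sum_congr rfl fun i _ => by rw [G.map_smulₛₗ, hg']
    have := Fintype.linearIndependent_iff.1 b.linearIndependent g' (hG (h0.trans (map_zero G).symm)) i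
    rw [← hg', this, map_zero]
  intro y
  have hy : y ∈ Submodule.span L (Set.range fun i => G (b i)) := by
    rw [hli.span_eq_top_of_card_eq_finrank' (by simp)]
    trivial
  obtain ⟨c, rfl⟩ := (Submodule.mem_span_range_iff_exists_fun L).1 hy
  choose c' hc' using fun i => hτ.surjective (c i)
  exact ⟨∑ i, c' i • b i, by
    rw [map_sum]
    exact Finset.sum_congr rfl fun i _ => by rw [G.map_smulₛₗ, hc']⟩

theorem bijective_restrict (hτ : Good τ) [Module.Finite L V] {G : V →ₛₗ[τ] V} (hG : Function.Injective G)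
    (P : Submodule L V) (hP : ∀ x ∈ P, G x ∈ P) : Function.Bijective (G.restrict hP) := by
  have hinj : Function.Injective (G.restrict hP) := fun x y h => Subtype.ext (hG (congrArg Subtype.val h))
  exact ⟨hinj, surjective_of_injective hτ hinj⟩

theorem coe_restrict_iter {G : V →ₛₗ[τ] V} (P : Submodule L V) (hP : ∀ x ∈ P, G x ∈ P) (x : P) :
    ∀ n : ℕ, (((⇑(G.restrict hP))^[n] x : P) : V) = (⇑G)^[n] (x : V)
  | 0 => rfl
  | n + 1 => by
    rw [Function.iterate_succ_apply', Function.iterate_succ_apply', ← coe_restrict_iter P hP x n]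
    rfl

theorem exists_cyclic [Module.Finite L V] [Nontrivial V] {G : V →ₛₗ[τ] V} :
    ∃ (h : ℕ) (P : Submodule L V) (hP : ∀ x ∈ P, G x ∈ P) (B : Module.Basis (Fin (h + 1)) L P),
      ∀ i : Fin h, (G.restrict hP) (B i.castSucc) = B i.succ := by
  classical
  obtain ⟨v, hv⟩ := exists_ne (0 : V)
  let f : ℕ → V := fun i => (⇑G)^[i] v
  have hex : ∃ n, ¬ LinearIndependent L (fun i : Fin n => f i) := ⟨Module.finrank L V + 1, fun h => by
    have := h.fintype_card_le_finrank
    simp at this⟩
  obtain ⟨h, hli, hdep⟩ : ∃ h, LinearIndependent L (fun i : Fin (h + 1) => f i) ∧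
      ¬ LinearIndependent L (fun i : Fin (h + 2) => f i) := by
    have hspec := Nat.find_spec hex
    have h0 : Nat.find hex ≠ 0 := fun h0 => by
      rw [h0] at hspec; exact hspec linearIndependent_empty_type
    have h1 : Nat.find hex ≠ 1 := fun h1 => by
      rw [h1] at hspec
      exact hspec (Fintype.linearIndependent_iff.2 fun g hg i => by
        simp only [Fin.sum_univ_one] at hg
        rw [Fin.fin_one_eq_zero i]
        exact (smul_eq_zero.1 hg).resolve_right hv)
    obtain ⟨h, hh⟩ : ∃ h, Nat.find hex = h + 2 := ⟨Nat.find hex - 2, by omega⟩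
    exact ⟨h, not_not.1 (Nat.find_min hex (by omega)), hh ▸ hspec⟩
  let P : Submodule L V := Submodule.span L (Set.range fun i : Fin (h + 1) => f i)
  have hlast : f (h + 1) ∈ P := by
    by_contra hni
    refine hdep ?_
    have e1 : (fun i : Fin (h + 2) => f i) = Fin.snoc (fun i : Fin (h + 1) => f i) (f (h + 1)) := by
      funext i
      induction i using Fin.lastCases <;> simp
    rw [e1]
    exact linearIndependent_finSnoc.2 ⟨hli, hni⟩
  have hP : ∀ x ∈ P, G x ∈ P := fun x hx => by
    induction hx using Submodule.span_induction with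
    | mem y hy =>
      obtain ⟨i, rfl⟩ := hy
      show G (f i) ∈ P
      rw [show G (f i) = f (i.val + 1) from (Function.iterate_succ_apply' _ _ _).symm]
      rcases Nat.lt_or_ge (i.val + 1) (h + 1) with hlt | hge
      · exact Submodule.subset_span ⟨⟨_, hlt⟩, rfl⟩
      · rwa [show i.val + 1 = h + 1 by omega]
    | zero => rw [map_zero]; exact zero_mem P
    | add y z _ _ hy hz => rw [map_add]; exact add_mem hy hz
    | smul c y _ hy => rw [G.map_smulₛₗ]; exact P.smul_mem _ hy
  refine ⟨h, P, hP, Module.Basis.span hli, fun i => Subtype.ext ?_⟩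
  rw [LinearMap.restrict_coe_apply, Module.Basis.span_apply, Module.Basis.span_apply]
  exact (Function.iterate_succ_apply' (⇑G) _ _).symm.trans (by simp [f])

theorem iter_add' (G : V →ₛₗ[τ] V) (n : ℕ) (x y : V) : (⇑G)^[n] (x + y) = (⇑G)^[n] x + (⇑G)^[n] y :=
  (Isoc.iter G n).map_add x y

section Extension

variable {P Q : Submodule (FractionRing (WittVector p k)) V} {G : V →ₛₗ[τ] V}

/-- The map induced on a complement. -/
def quotMap (G : V →ₛₗ[τ] V) (h : IsCompl Q P) : Q →ₛₗ[τ] Q :=
  ((Submodule.projectionOnto Q P h).comp G).comp Q.subtype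

/-- The defect of the induced map. -/
def defect (G : V →ₛₗ[τ] V) (h : IsCompl P Q) : Q →ₛₗ[τ] P :=
  ((Submodule.projectionOnto P Q h).comp G).comp Q.subtype

theorem decomp (h : IsCompl P Q) (x : V) :
    x = (Submodule.projectionOnto P Q h x : V) + (Submodule.projectionOnto Q P h.symm x : V) := by
  obtain ⟨a, ha, b, hb, rfl⟩ := Submodule.mem_sup.1 (h.codisjoint.eq_top.ge (Submodule.mem_top (x := x)))
  simp [map_add, Submodule.projectionOnto_apply_of_mem_left _ ha, Submodule.projectionOnto_apply_of_mem_left _ hb,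
    (Submodule.projectionOnto_apply_eq_zero_iff h).2 hb, (Submodule.projectionOnto_apply_eq_zero_iff h.symm).2 ha]

theorem quotMap_apply_add (hP : ∀ x ∈ P, G x ∈ P) (h : IsCompl P Q) (y : Q) :
    G (y : V) = (defect G h y : V) + (quotMap G h.symm y : V) :=
  decomp h (G (y : V))

theorem quotMap_injective (hτ : Good τ) [Module.Finite L V] (hG : Function.Injective G)
    (hP : ∀ x ∈ P, G x ∈ P) (h : IsCompl P Q) : Function.Injective (quotMap G h.symm) := by
  rw [injective_iff_map_eq_zero]
  intro y hy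
  have h1 := quotMap_apply_add hP h y
  rw [hy, ZeroMemClass.coe_zero, add_zero] at h1
  obtain ⟨z, hz⟩ := (bijective_restrict hτ hG P hP).2 (defect G h y)
  have hyz : (y : V) = z := hG (by rw [h1, ← hz]; rfl)
  exact Subtype.ext (Submodule.disjoint_def.1 h.disjoint _ (hyz ▸ z.2) y.2)

theorem iter_decomp (hP : ∀ x ∈ P, G x ∈ P) (h : IsCompl P Q) (y : Q) : ∀ n : ℕ,
    (⇑G)^[n] (y : V) = ((∑ j ∈ Finset.range n, (⇑(G.restrict hP))^[n - 1 - j]
      (defect G h ((⇑(quotMap G h.symm))^[j] y)) : P) : V) + ((⇑(quotMap G h.symm))^[n] y : Q)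
  | 0 => by simp
  | n + 1 => by
    rw [Function.iterate_succ_apply', iter_decomp hP h y n, map_add, quotMap_apply_add hP h,
      Function.iterate_succ_apply' (⇑(quotMap G h.symm)), Finset.sum_range_succ, ← add_assoc]
    congr 1
    rw [Submodule.coe_add, Submodule.coe_sum, Submodule.coe_sum, map_sum]
    congr 1
    · refine Finset.sum_congr rfl fun j hj => ?_
      rw [Finset.mem_range] at hj
      rw [show n + 1 - 1 - j = (n - 1 - j) + 1 by omega, Function.iterate_succ_apply']
      rfl
    · simp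

theorem lower_ext (hτ : Good τ) (hP : ∀ x ∈ P, G x ∈ P) (h : IsCompl P Q) {a b c : ℕ}
    (Bp : Module.Basis (Fin a) L P) (Bq : Module.Basis (Fin b) L Q) (B : Module.Basis (Fin c) L V) {q : ℚ}
    (h₁ : Lower (G.restrict hP) Bp q) (h₂ : Lower (quotMap G h.symm) Bq q) : Lower G B q := by
  obtain ⟨C₁, hC₁⟩ := h₁
  obtain ⟨C₂, hC₂⟩ := h₂
  obtain ⟨a₁, a₁0, ha₁⟩ := exists_shift Good.id P.subtype Bp B
  obtain ⟨a₂, a₂0, ha₂⟩ := exists_shift Good.id Q.subtype Bq B
  obtain ⟨b₁, b₁0, hb₁⟩ := exists_shift Good.id (Submodule.projectionOnto P Q h) B Bp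
  obtain ⟨b₂, b₂0, hb₂⟩ := exists_shift Good.id (Submodule.projectionOnto Q P h.symm) B Bq
  obtain ⟨d, d0, hd⟩ := exists_shift hτ (defect G h) Bq Bp
  refine ⟨a₁ + a₂ + b₁ + b₂ + d + |q| + 2 * |C₁| + 2 * |C₂|, fun i x t hx => ?_⟩
  have := le_abs_self C₁; have := le_abs_self C₂; have := le_abs_self q
  have := neg_abs_le C₁; have := neg_abs_le C₂; have := neg_abs_le q
  conv => arg 2; rw [decomp h x]
  rw [iter_add' G i, iter_decomp hP h, ← coe_restrict_iter P hP, ← add_assoc, ← Submodule.coe_add]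
  refine vb_add (vb_mono (ha₁ _ (t + q * i - (b₁ + b₂ + d + |q| + |C₁| + |C₂|)) (vb_add ?_ (vb_sum _ _ fun j hj => ?_))) ?_)
    (vb_mono (ha₂ _ _ (hC₂ i _ _ (hb₂ x t hx))) ?_)
  · refine vb_mono (hC₁ i _ _ (hb₁ x t hx)) ?_
    linarith
  · rw [Finset.mem_range] at hj
    refine vb_mono (hC₁ _ _ _ (hd _ _ (hC₂ j _ _ (hb₂ x t hx)))) ?_
    have e : ((i - 1 - j : ℕ) : ℚ) = (i : ℚ) - 1 - j := by
      rw [Nat.cast_sub (by omega), Nat.cast_sub (by omega)]; push_cast; ring
    rw [e]; nlinarith
  · linarith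
  · linarith

theorem sharp_sub (hP : ∀ x ∈ P, G x ∈ P) (h : IsCompl P Q) {a c : ℕ}
    (Bp : Module.Basis (Fin a) L P) (B : Module.Basis (Fin c) L V) {q : ℚ}
    (h₁ : Sharp (G.restrict hP) Bp q) : Sharp G B q := by
  obtain ⟨x, C, hC⟩ := h₁
  obtain ⟨b₁, -, hb₁⟩ := exists_shift Good.id (Submodule.projectionOnto P Q h) B Bp
  refine ⟨x, C + b₁, fun i hi => hC i ?_⟩
  rw [← coe_restrict_iter P hP] at hi
  have := hb₁ _ _ hi
  rw [Submodule.projectionOnto_apply_left] at this
  exact vb_mono this (by linarith)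

theorem sharp_quot (hP : ∀ x ∈ P, G x ∈ P) (h : IsCompl P Q) {b c : ℕ}
    (Bq : Module.Basis (Fin b) L Q) (B : Module.Basis (Fin c) L V) {q : ℚ}
    (h₂ : Sharp (quotMap G h.symm) Bq q) : Sharp G B q := by
  obtain ⟨y, C, hC⟩ := h₂
  obtain ⟨b₂, -, hb₂⟩ := exists_shift Good.id (Submodule.projectionOnto Q P h.symm) B Bq
  refine ⟨y, C + b₂, fun i hi => hC i ?_⟩
  have := hb₂ _ _ hi
  rw [iter_decomp hP h, map_add, Submodule.projectionOnto_apply_left,
    (Submodule.projectionOnto_apply_eq_zero_iff h.symm).2 (Submodule.coe_mem _), zero_add] at this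
  exact vb_mono this (by linarith)

end Extension

/-- The first slope exists and has denominator at most the height. -/
theorem exists_slope (hτ : Good τ) : ∀ (n : ℕ) {V : Type v} [AddCommGroup V] [Module L V] [Module.Finite L V]
    [Nontrivial V] (G : V →ₛₗ[τ] V), Function.Injective G → Module.finrank L V ≤ n →
    ∃ q : ℚ, q.den ≤ Module.finrank L V ∧ Slope G q
  | 0, V, _, _, _, _, G, hG, hn => by
    have : 0 < Module.finrank L V := Module.finrank_pos
    omega
  | n + 1, V, _, _, _, _, G, hG, hn => by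
    obtain ⟨h, P, hP, Bp, hBp⟩ := exists_cyclic (G := G)
    obtain ⟨q₁, hd₁, hq₁⟩ := exists_slope_cyclic hτ (bijective_restrict hτ hG P hP).1 hBp
    obtain ⟨Q, hPQ⟩ := P.exists_isCompl
    have hsum := Submodule.finrank_add_eq_of_isCompl hPQ
    have hPd : Module.finrank L P = h + 1 := by rw [Module.finrank_eq_card_basis Bp, Fintype.card_fin]
    let B := Module.finBasis L V
    let Bq := Module.finBasis L Q
    have hinj := quotMap_injective hτ hG hP hPQ
    rcases subsingleton_or_nontrivial Q with hQ | hQ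
    · have hQd : ∀ q : ℚ, Lower (quotMap G hPQ.symm) Bq q := fun q => ⟨0, fun i x t _ => by
        rw [Subsingleton.elim ((⇑(quotMap G hPQ.symm))^[i] x) 0]; exact vb_zero _ _⟩
      exact ⟨q₁, hd₁.trans (by omega), slope_of_basis (lower_ext hτ hP hPQ Bp Bq B (hq₁ _ Bp).1 (hQd _))
        (sharp_sub hP hPQ Bp B (hq₁ _ Bp).2)⟩
    · obtain ⟨q₂, hd₂, hq₂⟩ := exists_slope hτ n (quotMap G hPQ.symm) hinj (by omega)
      rcases le_total q₁ q₂ with hle | hle
      · exact ⟨q₁, hd₁.trans (by omega), slope_of_basis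
          (lower_ext hτ hP hPQ Bp Bq B (hq₁ _ Bp).1 ((hq₂ _ Bq).1.mono hle))
          (sharp_sub hP hPQ Bp B (hq₁ _ Bp).2)⟩
      · exact ⟨q₂, hd₂.trans (by omega), slope_of_basis
          (lower_ext hτ hP hPQ Bp Bq B ((hq₁ _ Bp).1.mono hle) (hq₂ _ Bq).1)
          (sharp_quot hP hPQ Bq B (hq₂ _ Bq).2)⟩

end Groth.Agent.IsocLib
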