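import Groth.Agent.IsocLib.Isoclinic
import Mathlib.RingTheory.WittVector.Complete
import Mathlib.RingTheory.OrderOfVanishing.Basic

/-!
# Splitting off the part of lowest slope

For `G = p^(-r) F^s` preserving a lattice `M`, the intersection of the `G^n M` spans the part of slope `r/s`, and
the vectors on which `G` is topologically nilpotent form a stable complement.
-/

set_option autoImplicit false
open Isoc

universe u v

noncomputable section

namespace Groth.Agent.IsocLib

variable {p : ℕ} [Fact p.Prime] {k : Type u} [Field k] [CharP k p] [PerfectRing k p]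
variable {N : Type v} [AddCommGroup N] [Module (WittVector p k) N] [Module (FractionRing (WittVector p k)) N]
  [IsScalarTower (WittVector p k) (FractionRing (WittVector p k)) N]
variable {τ : FractionRing (WittVector p k) →+* FractionRing (WittVector p k)}

local notation "W" => WittVector p k
local notation "L" => FractionRing (WittVector p k)

theorem pow_p_smul (n : ℕ) (x : N) : (p : W) ^ n • x = (p : L) ^ (n : ℤ) • x := by
  rw [w_smul, map_pow, ι_p, zpow_natCast]

/-- Limits in finitely generated modules. -/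
theorem exists_limit {M : Submodule W N} (hM : M.FG) (x : ℕ → N) (h0 : x 0 ∈ M)
    (hx : ∀ j : ℕ, x (j + 1) - x j ∈ pPow j M) : ∃ u ∈ M, ∀ j : ℕ, u - x j ∈ pPow j M := by
  classical
  obtain ⟨n, g, hg⟩ := Submodule.fg_iff_exists_fin_generating_family.1 hM
  have hd : ∀ j : ℕ, ∃ c : Fin n → W, ∑ i, c i • g i = (p : L) ^ (-(j : ℤ)) • (x (j + 1) - x j) := fun j =>
    (Submodule.mem_span_range_iff_exists_fun W).1 (hg ▸ mem_pPow_iff.1 (hx j))
  choose c hc using hd
  let S : Fin n → ℕ → W := fun i j => ∑ l ∈ Finset.range j, (p : W) ^ l * c l i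
  have hcauchy : ∀ i, ∀ {a b : ℕ}, a ≤ b →
      S i a ≡ S i b [SMOD ((Ideal.span {(p : W)}) ^ a • ⊤ : Submodule W W)] := fun i a b hab => by
    rw [SModEq.sub_mem, smul_eq_mul, Ideal.mul_top, Ideal.span_singleton_pow, Ideal.mem_span_singleton, ← dvd_neg,
      neg_sub]
    rw [show S i b - S i a = ∑ l ∈ Finset.Ico a b, (p : W) ^ l * c l i from
      (Finset.sum_Ico_eq_sub _ hab).symm]
    exact Finset.dvd_sum fun l hl => Dvd.dvd.mul_right (pow_dvd_pow _ (Finset.mem_Ico.1 hl).1) _
  choose A hA using fun i => IsPrecomplete.prec (I := Ideal.span {(p : W)}) inferInstance (hcauchy i)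
  have hS : ∀ j, x j = x 0 + ∑ i, S i j • g i := fun j => by
    induction j with
    | zero => simp [S]
    | succ j ih =>
      have h1 : x (j + 1) = x j + ∑ i, ((p : W) ^ j * c j i) • g i := by
        simp only [mul_smul, ← Finset.smul_sum]
        rw [hc, pow_p_smul, smul_smul, ← zpow_add₀ pL_ne_zero, add_neg_cancel, zpow_zero, one_smul]
        abel
      rw [h1, ih, add_assoc, ← Finset.sum_add_distrib]
      congr 1
      exact Finset.sum_congr rfl fun i _ => by rw [← add_smul]; congr 1; exact (Finset.sum_range_succ _ _).symm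
  have hgM : ∀ i, g i ∈ M := fun i => hg ▸ Submodule.subset_span ⟨i, rfl⟩
  refine ⟨x 0 + ∑ i, A i • g i, add_mem h0 (Submodule.sum_mem _ fun i _ => M.smul_mem _ (hgM i)), fun j => ?_⟩
  rw [hS j, add_sub_add_left_eq_sub, ← Finset.sum_sub_distrib]
  refine Submodule.sum_mem _ fun i _ => ?_
  rw [← sub_smul]
  have := hA i j
  rw [SModEq.sub_mem, smul_eq_mul, Ideal.mul_top, Ideal.span_singleton_pow, Ideal.mem_span_singleton, ← dvd_neg,
    neg_sub] at this
  obtain ⟨w, hw⟩ := this
  rw [hw, mul_smul, pow_p_smul]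
  exact smul_mem_pPow (M.smul_mem _ (hgM i))

/-- Decreasing chains between `p^j M` and `M` stabilise. -/
theorem stabilizes {M : Submodule W N} (hM : M.FG) (j : ℕ) (X : ℕ → Submodule W N) (hX : Antitone X)
    (hlow : ∀ n, pPow j M ≤ X n) (hup : ∀ n, X n ≤ M) : ∃ n₀, ∀ n, n₀ ≤ n → X n = X n₀ := by
  classical
  obtain ⟨m, g, hg⟩ := Submodule.fg_iff_exists_fin_generating_family.1 hM
  let φ : (Fin m → W) →ₗ[W] N := Fintype.linearCombination W g
  let I : Ideal W := Ideal.span {(p : W) ^ j}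
  let ψ : (Fin m → W) →ₗ[W] (Fin m → W ⧸ I) :=
    LinearMap.pi fun i => (Submodule.mkQ I).comp (LinearMap.proj i)
  haveI : Ring.KrullDimLE 1 W := Ring.KrullDimLE.mk₁' fun J hJ hJp => IsPrime.to_maximal_ideal hJ
  have hfl : IsFiniteLength W (W ⧸ I) := isFiniteLength_quotient_span_singleton W
    (mem_nonZeroDivisors_of_ne_zero (pow_ne_zero j (WittVector.p_nonzero p k)))
  haveI : IsArtinian W (W ⧸ I) := (isFiniteLength_iff_isNoetherian_isArtinian.1 hfl).2
  have hker : ∀ n, LinearMap.ker ψ ≤ (X n).comap φ := fun n a ha => by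
    refine hlow n ?_
    show φ a ∈ pPow j M
    simp only [φ, Fintype.linearCombination_apply]
    refine Submodule.sum_mem _ fun i _ => ?_
    have hi : a i ∈ I := (Submodule.Quotient.mk_eq_zero I).1 (congrFun (LinearMap.mem_ker.1 ha) i)
    obtain ⟨w, hw⟩ := Ideal.mem_span_singleton.1 hi
    rw [hw, mul_smul, pow_p_smul]
    exact smul_mem_pPow (M.smul_mem _ (hg ▸ Submodule.subset_span ⟨i, rfl⟩))
  let f : ℕ →o (Submodule W (Fin m → W ⧸ I))ᵒᵈ :=
    ⟨fun n => OrderDual.toDual (((X n).comap φ).map ψ), fun a b hab =>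
      Submodule.map_mono (Submodule.comap_mono (hX hab))⟩
  obtain ⟨n₀, hn₀⟩ := IsArtinian.monotone_stabilizes f
  refine ⟨n₀, fun n hn => ?_⟩
  have h1 : ((X n₀).comap φ).map ψ = ((X n).comap φ).map ψ := hn₀ n hn
  have h2 := congrArg (Submodule.comap ψ) h1
  rw [Submodule.comap_map_eq, Submodule.comap_map_eq, sup_of_le_left (hker _), sup_of_le_left (hker _)] at h2
  have hrange : ∀ l, X l ≤ LinearMap.range φ := fun l y hy => by
    obtain ⟨c, hc⟩ := (Submodule.mem_span_range_iff_exists_fun W).1 (hg ▸ hup l hy)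
    exact ⟨c, by simpa [φ, Fintype.linearCombination_apply] using hc⟩
  rw [← Submodule.map_comap_eq_of_le (hrange n), ← h2, Submodule.map_comap_eq_of_le (hrange n₀)]

theorem isLattice_latImg (hτ : Good τ) [Module.Finite L N] {G : N →ₛₗ[τ] N} (hG : Function.Injective G) (n : ℕ)
    {M : Submodule W N} (hM : M.IsLattice L) : (latImg G n M).IsLattice L := by
  refine ⟨latImg_fg hτ G n hM.fg, eq_top_iff.2 fun y hy => ?_⟩
  clear hy
  obtain ⟨z, rfl⟩ := (surjective_of_injective hτ hG).iterate n y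
  have hz : z ∈ Submodule.span L (M : Set N) := by rw [hM.span_eq_top]; trivial
  induction hz using Submodule.span_induction with
  | mem x hx => exact Submodule.subset_span (mem_latImg_of_mem G n hx)
  | zero => rw [iter_zero']; exact zero_mem _
  | add a b _ _ ha hb => rw [iter_add]; exact add_mem ha hb
  | smul c a _ ha => rw [iter_smul]; exact Submodule.smul_mem _ _ ha

/-- The lowest slope splits off. -/
theorem exists_split (hτ : Good τ) [Module.Finite L N] [Nontrivial N] (F : N →ₛₗ[τ] N) (hF : Function.Injective F) :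
    ∃ (q : ℚ) (U Z : Submodule L N), U ≠ ⊥ ∧ IsCompl U Z ∧ IsoSub F U q ∧ (∀ x ∈ Z, F x ∈ Z) := by
  classical
  obtain ⟨q, -, hq⟩ := exists_slope' hτ F hF
  set r := q.num
  set s := q.den
  have hs : 0 < s := q.den_pos
  obtain ⟨M, hM, hle⟩ := hq.exists_latImg_le hτ (r := r) (s := s) (le_of_eq (Rat.mul_den_eq_num q).symm)
  let G : N →ₛₗ[τ ^ s] N := (p : L) ^ (-r) • Isoc.iter F s
  have hτs : Good (τ ^ s) := hτ.pow s
  have hGinj : Function.Injective G := injective_twist hF (-r) s
  have hGapp : ∀ x, G x = (p : L) ^ (-r) • (⇑F)^[s] x := fun x => rfl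
  have hGiter : ∀ (n : ℕ) (x : N), (⇑G)^[n] x = (p : L) ^ (-r * n) • (⇑F)^[s * n] x := fun n x => by
    induction n with
    | zero => simp
    | succ n ih =>
      rw [Function.iterate_succ_apply', ih, hGapp, iter_pPow_smul hτ, ← Function.iterate_add_apply, smul_smul,
        ← zpow_add₀ pL_ne_zero, Nat.mul_succ, add_comm (s * n) s]
      push_cast
      ring_nf
  have hGM : ∀ m ∈ M, G m ∈ M := fun m hm => mem_pPow_iff.1 (hle (mem_latImg_of_mem F s hm))
  have hanti : Antitone (fun n => latImg G n M) := antitone_nat_of_succ_le fun n => latImg_le_iff.2 fun m hm => by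
    rw [Function.iterate_succ_apply]
    exact mem_latImg_of_mem G n (hGM m hm)
  have hG0 : latImg G 0 M = M := le_antisymm (latImg_le_iff.2 fun m hm => hm) fun m hm => mem_latImg_of_mem G 0 hm
  have hGpM : ∀ (j : ℤ) (n : ℕ) (x : N), x ∈ pPow j M → (⇑G)^[n] x ∈ pPow j M := fun j n x hx => by
    have h1 := mem_latImg_of_mem G n hx
    rw [latImg_pPow hτs] at h1
    exact pPow_mono j ((hanti (Nat.zero_le n)).trans hG0.le) h1
  have hFG : ∀ (n : ℕ) (x : N), (⇑G)^[n] (F x) = F ((⇑G)^[n] x) := fun n x => by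
    rw [hGiter, hGiter, F.map_smulₛₗ, hτ.map_p, ← Function.iterate_succ_apply,
      ← Function.iterate_succ_apply' (⇑F)]
  obtain ⟨c, hc⟩ := exists_le_pPow_lattice (latImg_fg hτ F 1 hM.fg) hM
  have hFc : ∀ (j : ℤ) (x : N), x ∈ pPow j M → F x ∈ pPow (j + -(c : ℤ)) M := fun j x hx => by
    have h1 := mem_latImg_of_mem F 1 hx
    rw [latImg_pPow hτ] at h1
    rw [← pPow_add]
    exact pPow_mono j hc h1
  -- the unit root part
  let UM : Submodule W N := ⨅ n, latImg G n M
  have hUMle : UM ≤ M := (iInf_le _ 0).trans hG0.le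
  have hUMfg : UM.FG := by
    have : IsNoetherian W M := isNoetherian_of_fg_of_noetherian M hM.fg
    have : IsNoetherian W UM := isNoetherian_of_le hUMle
    exact Module.Finite.iff_fg.1 inferInstance
  have hUM1 : ∀ n, latImg G n UM = UM := by
    have h1 : latImg G 1 UM = UM := by
      refine le_antisymm (latImg_le_iff.2 fun m hm => Submodule.mem_iInf _ |>.2 fun n => ?_) fun x hx => ?_
      · have := mem_latImg_of_mem G 1 (Submodule.mem_iInf _ |>.1 hm n)
        rw [latImg_latImg hτs] at this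
        exact hanti (by omega) this
      · obtain ⟨m₁, hm₁, rfl⟩ := (mem_latImg_iff hτs).1 (Submodule.mem_iInf _ |>.1 hx 1)
        refine mem_latImg_of_mem G 1 (Submodule.mem_iInf _ |>.2 fun n => ?_)
        obtain ⟨m', hm', hm''⟩ := (mem_latImg_iff hτs).1 (Submodule.mem_iInf _ |>.1 hx (1 + n))
        rw [Function.iterate_add_apply] at hm''
        exact iter_injective hGinj 1 hm'' ▸ mem_latImg_of_mem G n hm'
    intro n
    induction n with
    | zero => exact le_antisymm (latImg_le_iff.2 fun m hm => hm) fun m hm => mem_latImg_of_mem G 0 hm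
    | succ n ih => rw [add_comm, ← latImg_latImg hτs, ih, h1]
  let U : Submodule L N := Submodule.span L (UM : Set N)
  have hUst : ∀ x ∈ U, F x ∈ U := fun x hx => by
    induction hx using Submodule.span_induction with
    | mem y hy =>
      have h1 : (p : L) ^ (c : ℤ) • F y ∈ UM := Submodule.mem_iInf _ |>.2 fun n => by
        obtain ⟨m, hm, rfl⟩ := (mem_latImg_iff hτs).1 (Submodule.mem_iInf _ |>.1 hy n)
        rw [← hFG, ← iter_pPow_smul hτs]
        refine mem_latImg_of_mem G n ?_
        have := hFc 0 m (by rwa [pPow_zero])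
        rw [zero_add, mem_pPow_iff, neg_neg] at this
        exact this
      have := U.smul_mem ((p : L) ^ (-(c : ℤ))) (Submodule.subset_span h1)
      rwa [smul_smul, ← zpow_add₀ pL_ne_zero, neg_add_cancel, zpow_zero, one_smul] at this
    | zero => rw [map_zero]; exact zero_mem U
    | add a b _ _ ha hb => rw [map_add]; exact add_mem ha hb
    | smul t a _ ha => rw [F.map_smulₛₗ]; exact U.smul_mem _ ha
  have hiso : IsoSub F U q := by
    refine ⟨hUst, UM, r, s, hUMfg, rfl, hs, Rat.num_div_den q, ?_⟩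
    refine le_antisymm (latImg_le_iff.2 fun m hm => mem_pPow_iff.2 ?_) fun x hx => ?_
    · exact (hUM1 1).le (mem_latImg_of_mem G 1 hm)
    · obtain ⟨m, hm, hmx⟩ := (mem_latImg_iff hτs).1 ((hUM1 1).ge (mem_pPow_iff.1 hx))
      exact (mem_latImg_iff hτ).2 ⟨m, hm, smul_right_injective N (pPowL_ne_zero (-r)) hmx⟩
  obtain ⟨e, he⟩ := exists_le_pPow (M₁ := M ⊓ U.restrictScalars W) (M := UM)
    (by
      have : IsNoetherian W M := isNoetherian_of_fg_of_noetherian M hM.fg
      have : IsNoetherian W ↥(M ⊓ U.restrictScalars W) := isNoetherian_of_le inf_le_left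
      exact Module.Finite.iff_fg.1 inferInstance) fun x hx => hx.2
  -- elements of `U_M` sent deep into `M` are deep in `U_M`
  have hdeep : ∀ (n : ℕ) (j : ℤ) (u : N), u ∈ UM → (⇑G)^[n] u ∈ pPow j M → u ∈ pPow (j + -(e : ℤ)) UM := by
    intro n j u hu hj
    have h1 : (p : L) ^ (-j) • (⇑G)^[n] u ∈ M ⊓ U.restrictScalars W :=
      ⟨mem_pPow_iff.1 hj, U.smul_mem _ (Submodule.subset_span ((hUM1 n).le (mem_latImg_of_mem G n hu)))⟩
    have h2 := he h1
    rw [smul_mem_pPow_iff, sub_neg_eq_add, add_comm, ← hUM1 n, ← latImg_pPow hτs] at h2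
    obtain ⟨z, hz, hzu⟩ := (mem_latImg_iff hτs).1 h2
    exact iter_injective hGinj n hzu ▸ hz
  -- the topologically nilpotent part
  let Z : Submodule L N :=
    { carrier := {x | ∀ j : ℕ, ∃ n₀, ∀ n, n₀ ≤ n → (⇑G)^[n] x ∈ pPow j M}
      add_mem' := fun {a b} ha hb j => by
        obtain ⟨n₁, h₁⟩ := ha j
        obtain ⟨n₂, h₂⟩ := hb j
        exact ⟨max n₁ n₂, fun n hn => by
          rw [iter_add]; exact add_mem (h₁ n (le_of_max_le_left hn)) (h₂ n (le_of_max_le_right hn))⟩
      zero_mem' := fun j => ⟨0, fun n _ => by rw [iter_zero']; exact zero_mem _⟩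
      smul_mem' := fun t a ha j => by
        rcases eq_or_ne t 0 with rfl | ht
        · exact ⟨0, fun n _ => by rw [zero_smul, iter_zero']; exact zero_mem _⟩
        obtain ⟨n₀, h₀⟩ := ha (j + (-ordp t).toNat)
        refine ⟨n₀, fun n hn => ?_⟩
        rw [iter_smul]
        have hv : VGe (((τ ^ s) ^ n) t) (ordp t : ℤ) := (hτs.pow n).vGe (Or.inr le_rfl)
        have := vGe_smul_mem hv _ (h₀ n hn)
        rw [pPow_add] at this
        exact pPow_le_pPow (by push_cast; omega) M this }
  have hZst : ∀ x ∈ Z, F x ∈ Z := fun x hx j => by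
    obtain ⟨n₀, h₀⟩ := hx (j + c)
    refine ⟨n₀, fun n hn => ?_⟩
    rw [hFG]
    exact pPow_le_pPow (by push_cast; omega) M (hFc _ _ (h₀ n hn))
  have hdisj : Disjoint U Z := by
    rw [Submodule.disjoint_def]
    intro x hxU hxZ
    obtain ⟨a, ha⟩ := exists_smul_mem_of_mem_span UM hxU
    rw [mem_pPow_iff, neg_neg] at ha
    have hy : (p : L) ^ (a : ℤ) • x = 0 := by
      refine eq_zero_of_forall_mem_pPow hM fun j => ⟨j, le_rfl, ?_⟩
      obtain ⟨n₀, h₀⟩ := Z.smul_mem ((p : L) ^ (a : ℤ)) hxZ (j + e)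
      have := hdeep n₀ _ _ ha (h₀ n₀ le_rfl)
      exact pPow_le_pPow (by push_cast; omega) M (pPow_mono _ hUMle this)
    exact (smul_eq_zero.1 hy).resolve_left (pPowL_ne_zero _)
  -- the stable images modulo `p^j`
  have hT : ∀ j : ℕ, ∃ n₀, ∀ n, n₀ ≤ n → latImg G n M ⊔ pPow j M = latImg G n₀ M ⊔ pPow j M := fun j =>
    stabilizes hM.fg j (fun n => latImg G n M ⊔ pPow j M) (fun a b hab => sup_le_sup_right (hanti hab) _)
      (fun n => le_sup_right) fun n => sup_le ((hanti (Nat.zero_le n)).trans hG0.le)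
        ((pPow_le_pPow (Int.natCast_nonneg j) M).trans (pPow_zero M).le)
  choose Nj hNj using hT
  let T : ℕ → Submodule W N := fun j => latImg G (Nj j) M ⊔ pPow j M
  have hTmem : ∀ j n, T j ≤ latImg G n M ⊔ pPow j M := fun j n => by
    rcases le_total n (Nj j) with hn | hn
    · exact sup_le_sup_right (hanti hn) _
    · exact (hNj j n hn).ge
  have hTU : ∀ j, T j ≤ UM ⊔ pPow j M := by
    intro j x hx
    have hlift : ∀ i : ℕ, ∀ y ∈ T i, ∃ y' ∈ T (i + 1), y' - y ∈ pPow i M := fun i y hy => by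
      obtain ⟨a, ha, b, hb, rfl⟩ := Submodule.mem_sup.1 (hTmem i (Nj (i + 1)) hy)
      exact ⟨a, Submodule.mem_sup_left ha, by simpa using neg_mem hb⟩
    choose! L' hL1 hL2 using hlift
    let y : ℕ → N := fun i => Nat.rec x (fun l yl => L' (j + l) yl) i
    have hyT : ∀ i, y i ∈ T (j + i) := fun i => by
      induction i with
      | zero => exact hx
      | succ l ih => exact hL1 _ _ ih
    have hy : ∀ i : ℕ, y (i + 1) - y i ∈ pPow i (pPow j M) := fun i => by
      rw [pPow_add, add_comm, ← Nat.cast_add]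
      exact hL2 _ _ (hyT i)
    have hxM : x ∈ M := sup_le ((hanti (Nat.zero_le _)).trans hG0.le)
      ((pPow_le_pPow (Int.natCast_nonneg j) M).trans (pPow_zero M).le) hx
    -- limit inside `x + p^j M`
    obtain ⟨v, hv, hvl⟩ := exists_limit (M := pPow j M) (pPow_fg _ hM.fg) (fun i => y i - x)
      (by simp [y]) (fun i => by simpa using hy i)
    refine Submodule.mem_sup.2 ⟨x + v, Submodule.mem_iInf _ |>.2 fun n => ?_, -v, neg_mem hv, add_neg_cancel_right x v⟩
    obtain ⟨d, hd⟩ := exists_le_pPow_lattice hM.fg (isLattice_latImg hτs hGinj n hM)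
    have hd' : pPow d M ≤ latImg G n M := by
      refine (pPow_mono _ hd).trans (le_of_eq ?_)
      rw [pPow_add, add_neg_cancel, pPow_zero]
    have h1 := hvl d
    rw [pPow_add] at h1
    have h2 : y d ∈ latImg G n M := sup_le le_rfl ((pPow_le_pPow (by push_cast; omega) M).trans hd')
      (hTmem (j + d) n (hyT d))
    have h3 : v - (y d - x) ∈ latImg G n M := hd' (pPow_le_pPow (by omega) M h1)
    have := add_mem h3 h2
    rwa [show v - (y d - x) + y d = x + v by abel] at this
  have hsum : ∀ x ∈ M, x ∈ U ⊔ Z := fun x hx => by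
    have hex : ∀ j : ℕ, ∃ u ∈ UM, ∀ n, Nj j ≤ n → (⇑G)^[n] (x - u) ∈ pPow j M := fun j => by
      obtain ⟨a, ha, b, hb, hab⟩ :=
        Submodule.mem_sup.1 (hTU j (Submodule.mem_sup_left (mem_latImg_of_mem G (Nj j) hx)))
      obtain ⟨u, hu, hua⟩ := (mem_latImg_iff hτs).1 ((hUM1 (Nj j)).ge ha)
      refine ⟨u, hu, fun n hn => ?_⟩
      rw [show n = (n - Nj j) + Nj j by omega, Function.iterate_add_apply]
      refine hGpM _ _ _ ?_
      have h1 : (⇑G)^[Nj j] (x - u) + (⇑G)^[Nj j] u = (⇑G)^[Nj j] x := by rw [← iter_add, sub_add_cancel]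
      rw [hua, ← hab, add_comm a b] at h1
      exact (add_right_cancel h1) ▸ hb
    choose u hu hun using hex
    have hdiff : ∀ j : ℕ, u (j + 1) - u j ∈ pPow j (pPow (-(e : ℤ)) UM) := fun j => by
      rw [pPow_add]
      set n := max (Nj j) (Nj (j + 1))
      refine hdeep n _ _ (sub_mem (hu _) (hu _)) ?_
      have h1 := hun j n (le_max_left _ _)
      have h2 := pPow_le_pPow (show (j : ℤ) ≤ ((j + 1 : ℕ) : ℤ) by omega) M (hun (j + 1) n (le_max_right _ _))
      have h3 : (⇑G)^[n] (x - u j) = (⇑G)^[n] (x - u (j + 1)) + (⇑G)^[n] (u (j + 1) - u j) := by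
        rw [← iter_add]; congr 1; abel
      have := sub_mem h1 h2
      rwa [h3, add_sub_cancel_left] at this
    obtain ⟨v, hv, hvl⟩ := exists_limit (pPow_fg _ hUMfg) u (by
      exact pPow_le_pPow (show -(e : ℤ) ≤ 0 by omega) UM ((pPow_zero UM).ge (hu 0))) hdiff
    have hvU : v ∈ U := by
      have h1 := mem_pPow_iff.1 hv
      rw [neg_neg] at h1
      have := U.smul_mem ((p : L) ^ (-(e : ℤ))) (Submodule.subset_span h1)
      rwa [smul_smul, ← zpow_add₀ pL_ne_zero, neg_add_cancel, zpow_zero, one_smul] at this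
    refine Submodule.mem_sup.2 ⟨v, hvU, x - v, fun j => ⟨Nj (j + e), fun n hn => ?_⟩, add_sub_cancel v x⟩
    have h1 := pPow_le_pPow (show (j : ℤ) ≤ ((j + e : ℕ) : ℤ) by omega) M (hun (j + e) n hn)
    have h2 : v - u (j + e) ∈ pPow j M := by
      have := hvl (j + e)
      rw [pPow_add, show ((j + e : ℕ) : ℤ) + -(e : ℤ) = j by push_cast; ring] at this
      exact pPow_mono _ hUMle this
    have := sub_mem h1 (hGpM _ n _ h2)
    have h3 : (⇑G)^[n] (x - v) + (⇑G)^[n] (v - u (j + e)) = (⇑G)^[n] (x - u (j + e)) := by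
      rw [← iter_add, sub_add_sub_cancel]
    rwa [← h3, add_sub_cancel_right] at this
  have htop : U ⊔ Z = ⊤ := eq_top_iff.2 fun y _ => by
    have hy : y ∈ Submodule.span L (M : Set N) := by rw [hM.span_eq_top]; trivial
    exact Submodule.span_le.2 (fun x hx => hsum x hx) hy
  refine ⟨q, U, Z, fun hU0 => ?_, ⟨hdisj, codisjoint_iff.2 htop⟩, hiso, hZst⟩
  rw [hU0, bot_sup_eq] at htop
  obtain ⟨g, hg⟩ := hM.fg
  choose n₀ hn₀ using fun x : g => (htop ▸ Submodule.mem_top : (x : N) ∈ Z) 1
  obtain ⟨n, hn⟩ : ∃ n, n = g.attach.sup n₀ + 1 := ⟨_, rfl⟩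
  have hle' : latImg G n M ≤ pPow 1 M := latImg_le_iff.2 fun m hm => by
    rw [← hg] at hm
    induction hm using Submodule.span_induction with
    | mem x hx =>
      exact_mod_cast hn₀ ⟨x, hx⟩ n (hn ▸ (le_trans (Finset.le_sup (Finset.mem_attach _ _)) (Nat.le_succ _)))
    | zero => rw [iter_zero']; exact zero_mem _
    | add a b _ _ ha hb => rw [iter_add]; exact add_mem ha hb
    | smul w a _ ha => rw [w_smul, iter_smul]; exact intL_smul_mem ((hτs.pow n).intL ⟨w, rfl⟩) _ ha
  have hFle : latImg F (s * n) M ≤ pPow (r * n + 1) M := latImg_le_iff.2 fun m hm => by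
    have := hle' (mem_latImg_of_mem G n hm)
    rw [hGiter, smul_mem_pPow_iff, show (1 : ℤ) - -r * n = r * n + 1 by ring] at this
    exact this
  have hn0 : 0 < n := by omega
  have h1 := hq.div_le_of_latImg_le hτ hF hM (Nat.mul_pos hs hn0) hFle
  have h2 : q = (r : ℚ) / s := (Rat.num_div_den q).symm
  rw [h2, div_le_div_iff₀ (by positivity) (by positivity)] at h1
  push_cast at h1
  have hs' : (0 : ℚ) < s := by exact_mod_cast hs
  linarith

end Groth.Agent.IsocLib
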