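import Groth.Agent.IsocLib.Decomp
import Groth.Agent.IsocLib.FiniteField
import Mathlib.LinearAlgebra.Charpoly.ToMatrix
import Mathlib.RingTheory.IntegralClosure.IntegrallyClosed
import Mathlib.RingTheory.Polynomial.RationalRoot
import Mathlib.FieldTheory.IsAlgClosed.Basic

/-!
# Slopes over a finite field are valuations of the eigenvalues of `F^m`
-/

set_option autoImplicit false
open Isoc Polynomial

universe u v w

noncomputable section

namespace Groth.Agent.IsocLib

variable {p : ℕ} [Fact p.Prime] {k : Type u} [Field k] [CharP k p] [PerfectRing k p]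
variable {Ω : Type w} [Field Ω] [Algebra (WittVector p k) Ω] [Algebra (FractionRing (WittVector p k)) Ω]
  [IsScalarTower (WittVector p k) (FractionRing (WittVector p k)) Ω]
variable {N : Type v} [AddCommGroup N] [Module (WittVector p k) N] [Module (FractionRing (WittVector p k)) N]
  [IsScalarTower (WittVector p k) (FractionRing (WittVector p k)) N]
variable {τ : FractionRing (WittVector p k) →+* FractionRing (WittVector p k)}

local notation "W" => WittVector p k
local notation "L" => FractionRing (WittVector p k)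
local notation "π_p" => algebraMap (FractionRing (WittVector p k)) Ω (p : FractionRing (WittVector p k))

/-- Eigenvalues of integral matrices are integral. -/
theorem isIntegral_of_mulVec {n : ℕ} (R : Matrix (Fin n) (Fin n) W) {v : Fin n → Ω} (hv : v ≠ 0) {β : Ω}
    (h : (R.map (algebraMap W Ω)).mulVec v = β • v) : IsIntegral W β := by
  refine ⟨R.charpoly, R.charpoly_monic, ?_⟩
  rw [← Polynomial.eval_map, ← Matrix.charpoly_map, Matrix.eval_charpoly]
  exact Matrix.exists_mulVec_eq_zero_iff.1 ⟨v, hv, by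
    rw [Matrix.sub_mulVec, h, Matrix.scalar_apply]
    ext i
    simp [Matrix.mulVec_diagonal]⟩

/-- The matrix of a semilinear twist-free iterate is the power of the matrix. -/
theorem toMatrix_pow {n : ℕ} (B : Module.Basis (Fin n) L N) (π : N →ₗ[L] N) (s : ℕ) :
    LinearMap.toMatrix B B (π ^ s) = LinearMap.toMatrix B B π ^ s := by
  induction s with
  | zero => rw [pow_zero, pow_zero, LinearMap.toMatrix_one]
  | succ s ih => rw [pow_succ, pow_succ, LinearMap.toMatrix_mul, ih]

/-- A root of the characteristic polynomial of `F^m` on an isoclinic piece has the expected valuation. -/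
theorem root_isIntegral [Module.Finite L N] (hτ : Good τ) {F : N →ₛₗ[τ] N} (hF : Function.Injective F) {μ : ℚ}
    (h : IsIsoclinic F μ) {m : ℕ} (π : N →ₗ[L] N) (hπ : ∀ x, π x = (⇑F)^[m] x) {α : Ω}
    (hα : α ∈ (π.charpoly.map (algebraMap L Ω)).roots) :
    α ≠ 0 ∧ IsIntegral W (α ^ μ.den * π_p ^ (-(μ.num * (m : ℤ))))
      ∧ IsIntegral W (α ^ μ.den * π_p ^ (-(μ.num * (m : ℤ))))⁻¹ := by
  classical
  obtain ⟨M, hM, r, s, hs, hrs, hFM⟩ := h
  obtain ⟨n, B, rfl⟩ := exists_box hM
  set A := LinearMap.toMatrix B B π with hAdef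
  have hroot : (A.map (algebraMap L Ω)).charpoly.eval α = 0 := by
    rw [Matrix.charpoly_map, hAdef, LinearMap.charpoly_toMatrix]
    exact (Polynomial.mem_roots'.1 hα).2
  rw [Matrix.eval_charpoly] at hroot
  obtain ⟨v, hv, hvA⟩ := Matrix.exists_mulVec_eq_zero_iff.2 hroot
  have hAv : (A.map (algebraMap L Ω)).mulVec v = α • v := by
    rw [Matrix.sub_mulVec, sub_eq_zero] at hvA
    rw [← hvA, Matrix.scalar_apply]
    ext i
    simp [Matrix.mulVec_diagonal]
  have hπpow : ∀ (j : ℕ) (x : N), (π ^ j) x = (⇑F)^[m * j] x := fun j x => by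
    induction j with
    | zero => simp
    | succ j ih =>
      rw [pow_succ', Module.End.mul_apply, ih, hπ, ← Function.iterate_add_apply, Nat.mul_succ, add_comm]
  have hFM' : latImg F (m * s) (box B) = pPow (r * m) (box B) := by
    rw [Nat.mul_comm m s]; exact latImg_mul_eq hτ hFM m
  -- the integral matrix of `p^(-rm) π^s` and its inverse
  have hmem : ∀ j, ∃ c : Fin n → W, ∀ i, algebraMap W L (c i) =
      (p : L) ^ (-(r * m)) * (A ^ s) i j := fun j => by
    have h1 := mem_latImg_of_mem F (m * s) (M := box B) (Submodule.subset_span ⟨j, rfl⟩)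
    rw [hFM', mem_pPow_iff, mem_box_iff] at h1
    choose c hc using h1
    refine ⟨c, fun i => ?_⟩
    rw [hc, map_smul, Finsupp.smul_apply, smul_eq_mul, hAdef, ← toMatrix_pow, LinearMap.toMatrix_apply, hπpow]
  choose R hR using hmem
  let Rm : Matrix (Fin n) (Fin n) W := Matrix.of fun i j => R j i
  have hinv : ∀ j, ∃ c : Fin n → W, (p : L) ^ (r * m) • B j = ∑ i, algebraMap W L (c i) • (π ^ s) (B i) := fun j => by
    obtain ⟨y, hy, hyj⟩ := (mem_latImg_iff hτ).1 (hFM'.ge (smul_mem_pPow (Submodule.subset_span ⟨j, rfl⟩)))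
    choose c hc using mem_box_iff.1 hy
    refine ⟨c, ?_⟩
    rw [← hyj, ← hπpow]
    conv_lhs => rw [← B.sum_repr y]
    simp only [map_sum, map_smul, hc]
  choose S hS using hinv
  let Sm : Matrix (Fin n) (Fin n) W := Matrix.of fun i j => S j i
  have hRS : Rm * Sm = 1 := by
    refine Matrix.ext fun i j => inj_ι ?_
    rw [Matrix.mul_apply, map_sum]
    have h2 := congrArg (fun x => B.repr x i) (hS j)
    simp only [map_smul, map_sum, Finsupp.finsetSum_apply, Finsupp.smul_apply, smul_eq_mul, Module.Basis.repr_self] at h2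
    have h3 : ∀ l, B.repr ((π ^ s) (B l)) i = (A ^ s) i l := fun l => by
      rw [hAdef, ← toMatrix_pow, LinearMap.toMatrix_apply]
    simp only [h3] at h2
    simp only [Rm, Sm, Matrix.of_apply, map_mul, hR]
    have : ∑ l, (p : L) ^ (-(r * m)) * (A ^ s) i l * algebraMap W L (S j l)
        = (p : L) ^ (-(r * m)) * ∑ l, algebraMap W L (S j l) * (A ^ s) i l := by
      rw [Finset.mul_sum]
      exact Finset.sum_congr rfl fun l _ => by ring
    rw [this, ← h2, ← mul_assoc, ← zpow_add₀ pL_ne_zero, neg_add_cancel, zpow_zero, one_mul, Matrix.one_apply,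
      Finsupp.single_apply]
    simp [eq_comm, apply_ite]
  set β := α ^ s * π_p ^ (-(r * (m : ℤ))) with hβ
  have hpow : ∀ j : ℕ, ((A ^ j).map (algebraMap L Ω)).mulVec v = α ^ j • v := fun j => by
    induction j with
    | zero => rw [pow_zero, Matrix.map_one _ (map_zero _) (map_one _), Matrix.one_mulVec, pow_zero, one_smul]
    | succ j ih =>
      rw [pow_succ, ← RingHom.mapMatrix_apply, map_mul, RingHom.mapMatrix_apply, RingHom.mapMatrix_apply,
        ← Matrix.mulVec_mulVec, hAv, Matrix.mulVec_smul, ih, smul_smul, pow_succ, mul_comm]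
  have hRv : (Rm.map (algebraMap W Ω)).mulVec v = β • v := by
    have : Rm.map (algebraMap W Ω) = π_p ^ (-(r * (m : ℤ))) • (A ^ s).map (algebraMap L Ω) := by
      ext i j
      rw [Matrix.map_apply, Matrix.smul_apply, Matrix.map_apply, IsScalarTower.algebraMap_apply W L Ω,
        show algebraMap W L (Rm i j) = _ from hR j i, map_mul, map_zpow₀, smul_eq_mul]
    rw [this, Matrix.smul_mulVec, hpow, smul_smul, hβ, mul_comm]
  have hSRv : (Sm.map (algebraMap W Ω)).mulVec (β • v) = v := by
    rw [← hRv, Matrix.mulVec_mulVec, ← Matrix.map_mul, mul_eq_one_comm.1 hRS,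
      Matrix.map_one _ (map_zero _) (map_one _), Matrix.one_mulVec]
  have hβ0 : β ≠ 0 := fun h0 => hv (by rw [h0, zero_smul, Matrix.mulVec_zero] at hSRv; exact hSRv.symm)
  have hS' : (Sm.map (algebraMap W Ω)).mulVec v = β⁻¹ • v := by
    rw [Matrix.mulVec_smul] at hSRv
    rw [eq_inv_smul_iff₀ hβ0, hSRv]
  have hI := isIntegral_of_mulVec Rm hv hRv
  have hI' := isIntegral_of_mulVec Sm hv hS'
  have hα0 : α ≠ 0 := fun h0 => hβ0 (by rw [hβ, h0, zero_pow hs.ne', zero_mul])
  obtain ⟨t, ht⟩ : ((μ.den : ℤ)) ∣ (s : ℤ) := by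
    rw [← hrs, show (r : ℚ) / s = Rat.divInt r s from (Rat.divInt_eq_div r s).symm]
    exact Rat.den_dvd r s
  have ht0 : 0 < t := by
    have : (0 : ℤ) < s := by exact_mod_cast hs
    rw [ht] at this
    exact pos_of_mul_pos_right this (Int.natCast_nonneg _)
  obtain ⟨t, rfl⟩ := Int.eq_ofNat_of_zero_le ht0.le
  have hs' : s = μ.den * t := by exact_mod_cast ht
  have hr : r = μ.num * t := by
    have h1 : (r : ℚ) = μ * s := by rw [← hrs]; field_simp
    rw [hs', Nat.cast_mul, ← mul_assoc, Rat.mul_den_eq_num] at h1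
    exact_mod_cast h1
  have hβt : β = (α ^ μ.den * π_p ^ (-(μ.num * (m : ℤ)))) ^ t := by
    rw [hβ, mul_pow, ← pow_mul, ← hs', ← zpow_natCast (π_p ^ (-(μ.num * (m : ℤ)))), ← zpow_mul, hr]
    ring_nf
  rw [hβt] at hI hI'
  rw [← inv_pow] at hI'
  have ht' : 0 < t := by exact_mod_cast ht0
  exact ⟨hα0, IsIntegral.of_pow ht' hI, IsIntegral.of_pow ht' hI'⟩

/-- The valuation of a root determines the slope. -/
theorem slope_unique {m : ℕ} (hm : 0 < m) {α : Ω} (hα : α ≠ 0) {μ ν : ℚ}
    (h₁ : IsIntegral W (α ^ μ.den * π_p ^ (-(μ.num * (m : ℤ)))))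
    (h₁' : IsIntegral W (α ^ μ.den * π_p ^ (-(μ.num * (m : ℤ))))⁻¹)
    (h₂ : IsIntegral W (α ^ ν.den * π_p ^ (-(ν.num * (m : ℤ)))))
    (h₂' : IsIntegral W (α ^ ν.den * π_p ^ (-(ν.num * (m : ℤ))))⁻¹) : μ = ν := by
  set e : ℤ := (μ.num * ν.den - ν.num * μ.den) * m with he
  have hi : IsIntegral W (algebraMap L Ω ((p : L) ^ e)) ∧ IsIntegral W (algebraMap L Ω ((p : L) ^ (-e))) := by
    have key : ∀ {μ ν : ℚ}, IsIntegral W (α ^ ν.den * π_p ^ (-(ν.num * (m : ℤ)))) →
        IsIntegral W (α ^ μ.den * π_p ^ (-(μ.num * (m : ℤ))))⁻¹ →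
        IsIntegral W (algebraMap L Ω ((p : L) ^ ((μ.num * ν.den - ν.num * μ.den) * m))) := by
      intro μ ν hν hμ
      have hprod := (hν.pow μ.den).mul (hμ.pow ν.den)
      have hp0 : (π_p : Ω) ≠ 0 := (_root_.map_ne_zero _).2 pL_ne_zero
      have he' : (α ^ ν.den * π_p ^ (-(ν.num * (m : ℤ)))) ^ μ.den *
          (α ^ μ.den * π_p ^ (-(μ.num * (m : ℤ))))⁻¹ ^ ν.den
          = algebraMap L Ω ((p : L) ^ ((μ.num * ν.den - ν.num * μ.den) * (m : ℤ))) := by
        rw [inv_pow, mul_pow, mul_pow, mul_inv, mul_mul_mul_comm, ← pow_mul, ← pow_mul, Nat.mul_comm ν.den μ.den,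
          mul_inv_cancel₀ (pow_ne_zero _ hα), one_mul, ← zpow_natCast (_ ^ (-(ν.num * (m : ℤ)))),
          ← zpow_natCast (_ ^ (-(μ.num * (m : ℤ)))), ← zpow_mul, ← zpow_mul, ← zpow_neg, ← zpow_add₀ hp0, map_zpow₀]
        congr 1
        ring
      rw [← he']
      exact hprod
    refine ⟨key h₂ h₁', ?_⟩
    have := key h₁ h₂'
    rwa [show (ν.num * μ.den - μ.num * ν.den) * (m : ℤ) = -e by rw [he]; ring] at this
  have hnn : ∀ j : ℤ, IsIntegral W (algebraMap L Ω ((p : L) ^ j)) → 0 ≤ j := fun j hj => by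
    rw [isIntegral_algebraMap_iff (algebraMap L Ω).injective] at hj
    obtain ⟨w, hw⟩ := IsIntegrallyClosed.isIntegral_iff.1 hj
    have := ordp_nonneg ⟨w, hw⟩ (pPowL_ne_zero j)
    rwa [ordp_pPow] at this
  have h0 : e = 0 := le_antisymm (by have := hnn _ hi.2; omega) (hnn _ hi.1)
  rw [he, mul_eq_zero] at h0
  have h1 : μ.num * ν.den = ν.num * μ.den := by
    have := h0.resolve_right (by omega)
    omega
  exact Rat.eq_iff_mul_eq_mul.2 h1

/-- Multiplicities of slopes are numbers of eigenvalues of given valuation. -/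
theorem countP_roots [IsAlgClosed Ω] [Module.Finite L N] (hτ : Good τ) {F : N →ₛₗ[τ] N} (hF : Function.Injective F)
    {m : ℕ} (hm : 0 < m) (π : N →ₗ[L] N) (hπ : ∀ x, π x = (⇑F)^[m] x) (μ : ℚ)
    [DecidablePred fun α : Ω => IsIntegral W (α ^ μ.den * π_p ^ (-(μ.num * (m : ℤ))))
      ∧ IsIntegral W (α ^ μ.den * π_p ^ (-(μ.num * (m : ℤ))))⁻¹] :
    newtonMult F μ = Multiset.countP (fun α : Ω => IsIntegral W (α ^ μ.den * π_p ^ (-(μ.num * (m : ℤ))))
      ∧ IsIntegral W (α ^ μ.den * π_p ^ (-(μ.num * (m : ℤ))))⁻¹) ((π.charpoly.map (algebraMap L Ω)).roots) := by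
  classical
  obtain ⟨S₀, hS₀, -⟩ := exists_finset_sup_eq_top hτ hF
  let S := insert μ S₀
  have hS : S.sup (slopePart F) = ⊤ := eq_top_iff.2 (hS₀.ge.trans (Finset.sup_mono (Finset.subset_insert _ _)))
  have hπst : ∀ (P : Submodule L N), (∀ x ∈ P, F x ∈ P) → ∀ x ∈ P, π x ∈ P := fun P hP x hx => by
    rw [hπ, ← coe_restrict_iter P hP ⟨x, hx⟩]; exact Submodule.coe_mem _
  have hpiece : ∀ ν, ∀ (hP : ∀ x ∈ slopePart F ν, π x ∈ slopePart F ν),
      Multiset.countP (fun α : Ω => IsIntegral W (α ^ μ.den * π_p ^ (-(μ.num * (m : ℤ))))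
        ∧ IsIntegral W (α ^ μ.den * π_p ^ (-(μ.num * (m : ℤ))))⁻¹)
        (((π.restrict hP).charpoly.map (algebraMap L Ω)).roots) = if ν = μ then newtonMult F ν else 0 := by
    intro ν hP
    have hst := (isoSub_slopePart hτ F ν).stable
    have hall := fun α (hα : α ∈ (((π.restrict hP).charpoly.map (algebraMap L Ω)).roots)) =>
      root_isIntegral hτ (bijective_restrict hτ hF _ hst).1 ((isoSub_slopePart hτ F ν).isIsoclinic hτ hst)
        (π.restrict hP) (fun x => Subtype.ext (by rw [coe_restrict_iter _ hst]; exact hπ x)) hα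
    split_ifs with hνμ
    · subst hνμ
      rw [Multiset.countP_eq_card.2 fun α hα => (hall α hα).2, newtonMult,
        IsAlgClosed.card_roots_eq_natDegree, Polynomial.natDegree_map, LinearMap.charpoly_natDegree]
    · refine Multiset.countP_eq_zero.2 fun α hα hμα => hνμ ?_
      exact slope_unique hm (hall α hα).1 (hall α hα).2.1 (hall α hα).2.2 hμα.1 hμα.2
  have key : ∀ T : Finset ℚ, ∀ (hT : ∀ x ∈ T.sup (slopePart F), π x ∈ T.sup (slopePart F)),
      Multiset.countP (fun α : Ω => IsIntegral W (α ^ μ.den * π_p ^ (-(μ.num * (m : ℤ))))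
        ∧ IsIntegral W (α ^ μ.den * π_p ^ (-(μ.num * (m : ℤ))))⁻¹)
        (((π.restrict hT).charpoly.map (algebraMap L Ω)).roots) = if μ ∈ T then newtonMult F μ else 0 := by
    intro T
    induction T using Finset.induction_on with
    | empty =>
      intro hT
      have h1 : (π.restrict hT).charpoly = 1 := by
        refine Polynomial.eq_one_of_monic_natDegree_zero (LinearMap.charpoly_monic _) ?_
        rw [LinearMap.charpoly_natDegree]
        simp
      rw [h1]; simp
    | insert ν T hνT ih =>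
      intro hT
      set P := slopePart F ν with hPdef
      set Q := T.sup (slopePart F) with hQdef
      set R := (insert ν T).sup (slopePart F) with hRdef
      have hRe : R = P ⊔ Q := Finset.sup_insert
      have hQs : ∀ x ∈ Q, π x ∈ Q := by
        rw [hQdef]
        refine Finset.sup_induction (p := fun R : Submodule L N => ∀ y ∈ R, π y ∈ R) ?_ ?_ fun ρ _ =>
          hπst _ (isoSub_slopePart hτ F ρ).stable
        · intro y hy; rw [(Submodule.mem_bot L).1 hy, map_zero]; exact zero_mem _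
        · intro A hA B hB y hy
          obtain ⟨a, ha, b, hb, rfl⟩ := Submodule.mem_sup.1 hy
          rw [map_add]; exact Submodule.add_mem_sup (hA a ha) (hB b hb)
      have hPs : ∀ x ∈ P, π x ∈ P := hπst _ (isoSub_slopePart hτ F ν).stable
      have hPR : P ≤ R := hRe ▸ le_sup_left
      have hQR : Q ≤ R := hRe ▸ le_sup_right
      let f : (P × Q) →ₗ[L] R := (Submodule.inclusion hPR).coprod (Submodule.inclusion hQR)
      have hf : Function.Bijective f := by
        constructor
        · rw [injective_iff_map_eq_zero]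
          rintro ⟨⟨x, hx⟩, ⟨y, hy⟩⟩ h
          have h' : x + y = 0 := congrArg Subtype.val h
          have hx0 : x = 0 := Submodule.disjoint_def.1 (disjoint_finset_sup hτ hF T ν hνT) x hx
            (by rw [eq_neg_of_add_eq_zero_left h']; exact neg_mem hy)
          subst hx0
          rw [zero_add] at h'
          subst h'
          rfl
        · rintro ⟨z, hz⟩
          obtain ⟨x, hx, y, hy, rfl⟩ := Submodule.mem_sup.1 (hRe ▸ hz : z ∈ P ⊔ Q)
          exact ⟨(⟨x, hx⟩, ⟨y, hy⟩), rfl⟩
      let E := LinearEquiv.ofBijective f hf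
      have hconj : E.conj ((π.restrict hPs).prodMap (π.restrict hQs)) = π.restrict hT := by
        refine LinearMap.ext fun z => ?_
        obtain ⟨⟨x, y⟩, rfl⟩ := E.surjective z
        rw [LinearEquiv.conj_apply_apply, LinearEquiv.symm_apply_apply]
        apply Subtype.ext
        show π x + π y = π ((x : N) + y)
        rw [map_add]
      rw [← hconj, LinearEquiv.charpoly_conj, LinearMap.charpoly_prodMap, Polynomial.map_mul,
        Polynomial.roots_mul (mul_ne_zero ((LinearMap.charpoly_monic _).map _).ne_zero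
          ((LinearMap.charpoly_monic _).map _).ne_zero),
        Multiset.countP_add, hpiece ν hPs, ih hQs]
      rcases eq_or_ne ν μ with rfl | hne
      · rw [if_pos rfl, if_neg hνT, add_zero, if_pos (Finset.mem_insert_self _ _)]
      · simp [hne, hne.symm]
  have hT : ∀ x ∈ S.sup (slopePart F), π x ∈ S.sup (slopePart F) := fun x _ => hS ▸ Submodule.mem_top
  have h1 := key S hT
  rw [if_pos (Finset.mem_insert_self _ _)] at h1
  rw [← h1]
  have hconj : (LinearEquiv.ofTop _ hS).conj (π.restrict hT) = π := LinearMap.ext fun x => rfl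
  conv_rhs => rw [← hconj, LinearEquiv.charpoly_conj]

end Groth.Agent.IsocLib
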